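import Cfsg.Agent.Lib.PermComp.OutP.Master3
import Cfsg.Agent.Lib.PermComp.OutP.Co2o.DataP0
import Cfsg.Agent.Lib.PermComp.OutP.Co2o.DataP1

set_option autoImplicit false
set_option maxRecDepth 100000
set_option maxHeartbeats 0

namespace Cfsg.Agent.Lib.PermComp.OutP.Co2o

open Cfsg Cfsg.Agent.Lib.PermComp.OutP
open Cfsg.Agent.Lib.PermComp.Core (force)
open Cfsg.Agent.Lib.PermComp.Kron (rangeAll rangeAll_spec)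

def n : Nat := 4600
def mF : Nat := 72
noncomputable def TT_T : Nat := (Nat.lor (Nat.lor (Nat.lor (Nat.lor (Nat.lor (Nat.lor (Nat.lor (Nat.lor TT_p0 (Nat.shiftLeft TT_p1 15990)) (Nat.shiftLeft (Nat.lor TT_p2 (Nat.shiftLeft (Nat.lor TT_p3 (Nat.shiftLeft TT_p4 15990)) 15990)) 31980)) (Nat.shiftLeft (Nat.lor (Nat.lor TT_p5 (Nat.shiftLeft TT_p6 15990)) (Nat.shiftLeft (Nat.lor TT_p7 (Nat.shiftLeft (Nat.lor TT_p8 (Nat.shiftLeft TT_p9 15990)) 15990)) 31980)) 79950)) (Nat.shiftLeft (Nat.lor (Nat.lor (Nat.lor TT_p10 (Nat.shiftLeft TT_p11 15990)) (Nat.shiftLeft (Nat.lor TT_p12 (Nat.shiftLeft (Nat.lor TT_p13 (Nat.shiftLeft TT_p14 15990)) 15990)) 31980)) (Nat.shiftLeft (Nat.lor (Nat.lor TT_p15 (Nat.shiftLeft TT_p16 15990)) (Nat.shiftLeft (Nat.lor TT_p17 (Nat.shiftLeft (Nat.lor TT_p18 (Nat.shiftLeft TT_p19 15990))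 15990)) 31980)) 79950)) 159900)) (Nat.shiftLeft (Nat.lor (Nat.lor (Nat.lor (Nat.lor TT_p20 (Nat.shiftLeft TT_p21 15990)) (Nat.shiftLeft (Nat.lor TT_p22 (Nat.shiftLeft (Nat.lor TT_p23 (Nat.shiftLeft TT_p24 15990)) 15990)) 31980)) (Nat.shiftLeft (Nat.lor (Nat.lor TT_p25 (Nat.shiftLeft TT_p26 15990)) (Nat.shiftLeft (Nat.lor TT_p27 (Nat.shiftLeft (Nat.lor TT_p28 (Nat.shiftLeft TT_p29 15990)) 15990)) 31980)) 79950)) (Nat.shiftLeft (Nat.lor (Nat.lor (Nat.lor TT_p30 (Nat.shiftLeft TT_p31 15990)) (Nat.shiftLeft (Nat.lor TT_p32 (Nat.shiftLeft (Nat.lor TT_p33 (Nat.shiftLeft TT_p34 15990)) 15990)) 31980)) (Nat.shiftLeft (Nat.lor (Nat.lor TT_p35 (Nat.shiftLeft (Nat.lor TT_p36 (Nat.shiftLeft TT_p37 15990)) 15990)) (Nat.shiftLeft (Nat.lor TT_p38 (Nat.shiftLeft (Nat.lor TT_p39 (Nat.shiftLeft TT_p40 15990)) 15990))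 47970)) 79950)) 159900)) 319800)) (Nat.shiftLeft (Nat.lor (Nat.lor (Nat.lor (Nat.lor (Nat.lor TT_p41 (Nat.shiftLeft TT_p42 15990)) (Nat.shiftLeft (Nat.lor TT_p43 (Nat.shiftLeft (Nat.lor TT_p44 (Nat.shiftLeft TT_p45 15990)) 15990)) 31980)) (Nat.shiftLeft (Nat.lor (Nat.lor TT_p46 (Nat.shiftLeft TT_p47 15990)) (Nat.shiftLeft (Nat.lor TT_p48 (Nat.shiftLeft (Nat.lor TT_p49 (Nat.shiftLeft TT_p50 15990)) 15990)) 31980)) 79950)) (Nat.shiftLeft (Nat.lor (Nat.lor (Nat.lor TT_p51 (Nat.shiftLeft TT_p52 15990)) (Nat.shiftLeft (Nat.lor TT_p53 (Nat.shiftLeft (Nat.lor TT_p54 (Nat.shiftLeft TT_p55 15990)) 15990)) 31980)) (Nat.shiftLeft (Nat.lor (Nat.lor TT_p56 (Nat.shiftLeft (Nat.lor TT_p57 (Nat.shiftLeft TT_p58 15990)) 15990)) (Nat.shiftLeft (Nat.lor TT_p59 (Nat.shiftLeft (Nat.lor TT_p60 (Nat.shiftLeft TT_p61 15990))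 15990)) 47970)) 79950)) 159900)) (Nat.shiftLeft (Nat.lor (Nat.lor (Nat.lor (Nat.lor TT_p62 (Nat.shiftLeft TT_p63 15990)) (Nat.shiftLeft (Nat.lor TT_p64 (Nat.shiftLeft (Nat.lor TT_p65 (Nat.shiftLeft TT_p66 15990)) 15990)) 31980)) (Nat.shiftLeft (Nat.lor (Nat.lor TT_p67 (Nat.shiftLeft TT_p68 15990)) (Nat.shiftLeft (Nat.lor TT_p69 (Nat.shiftLeft (Nat.lor TT_p70 (Nat.shiftLeft TT_p71 15990)) 15990)) 31980)) 79950)) (Nat.shiftLeft (Nat.lor (Nat.lor (Nat.lor TT_p72 (Nat.shiftLeft TT_p73 15990)) (Nat.shiftLeft (Nat.lor TT_p74 (Nat.shiftLeft (Nat.lor TT_p75 (Nat.shiftLeft TT_p76 15990)) 15990)) 31980)) (Nat.shiftLeft (Nat.lor (Nat.lor TT_p77 (Nat.shiftLeft (Nat.lor TT_p78 (Nat.shiftLeft TT_p79 15990)) 15990)) (Nat.shiftLeft (Nat.lor TT_p80 (Nat.shiftLeft (Nat.lor TT_p81 (Nat.shiftLeft TT_p82 15990)) 15990))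 47970)) 79950)) 159900)) 335790)) 655590)) (Nat.shiftLeft (Nat.lor (Nat.lor (Nat.lor (Nat.lor (Nat.lor (Nat.lor TT_p83 (Nat.shiftLeft TT_p84 15990)) (Nat.shiftLeft (Nat.lor TT_p85 (Nat.shiftLeft (Nat.lor TT_p86 (Nat.shiftLeft TT_p87 15990)) 15990)) 31980)) (Nat.shiftLeft (Nat.lor (Nat.lor TT_p88 (Nat.shiftLeft TT_p89 15990)) (Nat.shiftLeft (Nat.lor TT_p90 (Nat.shiftLeft (Nat.lor TT_p91 (Nat.shiftLeft TT_p92 15990)) 15990)) 31980)) 79950)) (Nat.shiftLeft (Nat.lor (Nat.lor (Nat.lor TT_p93 (Nat.shiftLeft TT_p94 15990)) (Nat.shiftLeft (Nat.lor TT_p95 (Nat.shiftLeft (Nat.lor TT_p96 (Nat.shiftLeft TT_p97 15990)) 15990)) 31980)) (Nat.shiftLeft (Nat.lor (Nat.lor TT_p98 (Nat.shiftLeft TT_p99 15990)) (Nat.shiftLeft (Nat.lor TT_p100 (Nat.shiftLeft (Nat.lor TT_p101 (Nat.shiftLeft TT_p102 15990)) 15990)) 31980))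 79950)) 159900)) (Nat.shiftLeft (Nat.lor (Nat.lor (Nat.lor (Nat.lor TT_p103 (Nat.shiftLeft TT_p104 15990)) (Nat.shiftLeft (Nat.lor TT_p105 (Nat.shiftLeft (Nat.lor TT_p106 (Nat.shiftLeft TT_p107 15990)) 15990)) 31980)) (Nat.shiftLeft (Nat.lor (Nat.lor TT_p108 (Nat.shiftLeft TT_p109 15990)) (Nat.shiftLeft (Nat.lor TT_p110 (Nat.shiftLeft (Nat.lor TT_p111 (Nat.shiftLeft TT_p112 15990)) 15990)) 31980)) 79950)) (Nat.shiftLeft (Nat.lor (Nat.lor (Nat.lor TT_p113 (Nat.shiftLeft TT_p114 15990)) (Nat.shiftLeft (Nat.lor TT_p115 (Nat.shiftLeft (Nat.lor TT_p116 (Nat.shiftLeft TT_p117 15990)) 15990)) 31980)) (Nat.shiftLeft (Nat.lor (Nat.lor TT_p118 (Nat.shiftLeft (Nat.lor TT_p119 (Nat.shiftLeft TT_p120 15990)) 15990)) (Nat.shiftLeft (Nat.lor TT_p121 (Nat.shiftLeft (Nat.lor TT_p122 (Nat.shiftLeft TT_p123 15990)) 15990))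 47970)) 79950)) 159900)) 319800)) (Nat.shiftLeft (Nat.lor (Nat.lor (Nat.lor (Nat.lor (Nat.lor TT_p124 (Nat.shiftLeft TT_p125 15990)) (Nat.shiftLeft (Nat.lor TT_p126 (Nat.shiftLeft (Nat.lor TT_p127 (Nat.shiftLeft TT_p128 15990)) 15990)) 31980)) (Nat.shiftLeft (Nat.lor (Nat.lor TT_p129 (Nat.shiftLeft TT_p130 15990)) (Nat.shiftLeft (Nat.lor TT_p131 (Nat.shiftLeft (Nat.lor TT_p132 (Nat.shiftLeft TT_p133 15990)) 15990)) 31980)) 79950)) (Nat.shiftLeft (Nat.lor (Nat.lor (Nat.lor TT_p134 (Nat.shiftLeft TT_p135 15990)) (Nat.shiftLeft (Nat.lor TT_p136 (Nat.shiftLeft (Nat.lor TT_p137 (Nat.shiftLeft TT_p138 15990)) 15990)) 31980)) (Nat.shiftLeft (Nat.lor (Nat.lor TT_p139 (Nat.shiftLeft (Nat.lor TT_p140 (Nat.shiftLeft TT_p141 15990)) 15990)) (Nat.shiftLeft (Nat.lor TT_p142 (Nat.shiftLeft (Nat.lor TT_p143 (Nat.shiftLeft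 TT_p144 15990)) 15990)) 47970)) 79950)) 159900)) (Nat.shiftLeft (Nat.lor (Nat.lor (Nat.lor (Nat.lor TT_p145 (Nat.shiftLeft TT_p146 15990)) (Nat.shiftLeft (Nat.lor TT_p147 (Nat.shiftLeft (Nat.lor TT_p148 (Nat.shiftLeft TT_p149 15990)) 15990)) 31980)) (Nat.shiftLeft (Nat.lor (Nat.lor TT_p150 (Nat.shiftLeft TT_p151 15990)) (Nat.shiftLeft (Nat.lor TT_p152 (Nat.shiftLeft (Nat.lor TT_p153 (Nat.shiftLeft TT_p154 15990)) 15990)) 31980)) 79950)) (Nat.shiftLeft (Nat.lor (Nat.lor (Nat.lor TT_p155 (Nat.shiftLeft TT_p156 15990)) (Nat.shiftLeft (Nat.lor TT_p157 (Nat.shiftLeft (Nat.lor TT_p158 (Nat.shiftLeft TT_p159 15990)) 15990)) 31980)) (Nat.shiftLeft (Nat.lor (Nat.lor TT_p160 (Nat.shiftLeft (Nat.lor TT_p161 (Nat.shiftLeft TT_p162 15990)) 15990)) (Nat.shiftLeft (Nat.lor TT_p163 (Nat.shiftLeft (Nat.lor TT_p164 (Nat.shiftLeft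 TT_p165 15990)) 15990)) 47970)) 79950)) 159900)) 335790)) 655590)) 1327170)) (Nat.shiftLeft (Nat.lor (Nat.lor (Nat.lor (Nat.lor (Nat.lor (Nat.lor (Nat.lor TT_p166 (Nat.shiftLeft TT_p167 15990)) (Nat.shiftLeft (Nat.lor TT_p168 (Nat.shiftLeft (Nat.lor TT_p169 (Nat.shiftLeft TT_p170 15990)) 15990)) 31980)) (Nat.shiftLeft (Nat.lor (Nat.lor TT_p171 (Nat.shiftLeft TT_p172 15990)) (Nat.shiftLeft (Nat.lor TT_p173 (Nat.shiftLeft (Nat.lor TT_p174 (Nat.shiftLeft TT_p175 15990)) 15990)) 31980)) 79950)) (Nat.shiftLeft (Nat.lor (Nat.lor (Nat.lor TT_p176 (Nat.shiftLeft TT_p177 15990)) (Nat.shiftLeft (Nat.lor TT_p178 (Nat.shiftLeft (Nat.lor TT_p179 (Nat.shiftLeft TT_p180 15990)) 15990)) 31980)) (Nat.shiftLeft (Nat.lor (Nat.lor TT_p181 (Nat.shiftLeft TT_p182 15990)) (Nat.shiftLeft (Nat.lor TT_p183 (Nat.shiftLeft (Nat.lor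 TT_p184 (Nat.shiftLeft TT_p185 15990)) 15990)) 31980)) 79950)) 159900)) (Nat.shiftLeft (Nat.lor (Nat.lor (Nat.lor (Nat.lor TT_p186 (Nat.shiftLeft TT_p187 15990)) (Nat.shiftLeft (Nat.lor TT_p188 (Nat.shiftLeft (Nat.lor TT_p189 (Nat.shiftLeft TT_p190 15990)) 15990)) 31980)) (Nat.shiftLeft (Nat.lor (Nat.lor TT_p191 (Nat.shiftLeft TT_p192 15990)) (Nat.shiftLeft (Nat.lor TT_p193 (Nat.shiftLeft (Nat.lor TT_p194 (Nat.shiftLeft TT_p195 15990)) 15990)) 31980)) 79950)) (Nat.shiftLeft (Nat.lor (Nat.lor (Nat.lor TT_p196 (Nat.shiftLeft TT_p197 15990)) (Nat.shiftLeft (Nat.lor TT_p198 (Nat.shiftLeft (Nat.lor TT_p199 (Nat.shiftLeft TT_p200 15990)) 15990)) 31980)) (Nat.shiftLeft (Nat.lor (Nat.lor TT_p201 (Nat.shiftLeft (Nat.lor TT_p202 (Nat.shiftLeft TT_p203 15990)) 15990)) (Nat.shiftLeft (Nat.lor TT_p204 (Nat.shiftLeft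 (Nat.lor TT_p205 (Nat.shiftLeft TT_p206 15990)) 15990)) 47970)) 79950)) 159900)) 319800)) (Nat.shiftLeft (Nat.lor (Nat.lor (Nat.lor (Nat.lor (Nat.lor TT_p207 (Nat.shiftLeft TT_p208 15990)) (Nat.shiftLeft (Nat.lor TT_p209 (Nat.shiftLeft (Nat.lor TT_p210 (Nat.shiftLeft TT_p211 15990)) 15990)) 31980)) (Nat.shiftLeft (Nat.lor (Nat.lor TT_p212 (Nat.shiftLeft TT_p213 15990)) (Nat.shiftLeft (Nat.lor TT_p214 (Nat.shiftLeft (Nat.lor TT_p215 (Nat.shiftLeft TT_p216 15990)) 15990)) 31980)) 79950)) (Nat.shiftLeft (Nat.lor (Nat.lor (Nat.lor TT_p217 (Nat.shiftLeft TT_p218 15990)) (Nat.shiftLeft (Nat.lor TT_p219 (Nat.shiftLeft (Nat.lor TT_p220 (Nat.shiftLeft TT_p221 15990)) 15990)) 31980)) (Nat.shiftLeft (Nat.lor (Nat.lor TT_p222 (Nat.shiftLeft (Nat.lor TT_p223 (Nat.shiftLeft TT_p224 15990)) 15990)) (Nat.shiftLeft (Nat.lor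 TT_p225 (Nat.shiftLeft (Nat.lor TT_p226 (Nat.shiftLeft TT_p227 15990)) 15990)) 47970)) 79950)) 159900)) (Nat.shiftLeft (Nat.lor (Nat.lor (Nat.lor (Nat.lor TT_p228 (Nat.shiftLeft TT_p229 15990)) (Nat.shiftLeft (Nat.lor TT_p230 (Nat.shiftLeft (Nat.lor TT_p231 (Nat.shiftLeft TT_p232 15990)) 15990)) 31980)) (Nat.shiftLeft (Nat.lor (Nat.lor TT_p233 (Nat.shiftLeft TT_p234 15990)) (Nat.shiftLeft (Nat.lor TT_p235 (Nat.shiftLeft (Nat.lor TT_p236 (Nat.shiftLeft TT_p237 15990)) 15990)) 31980)) 79950)) (Nat.shiftLeft (Nat.lor (Nat.lor (Nat.lor TT_p238 (Nat.shiftLeft TT_p239 15990)) (Nat.shiftLeft (Nat.lor TT_p240 (Nat.shiftLeft (Nat.lor TT_p241 (Nat.shiftLeft TT_p242 15990)) 15990)) 31980)) (Nat.shiftLeft (Nat.lor (Nat.lor TT_p243 (Nat.shiftLeft (Nat.lor TT_p244 (Nat.shiftLeft TT_p245 15990)) 15990)) (Nat.shiftLeft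 (Nat.lor TT_p246 (Nat.shiftLeft (Nat.lor TT_p247 (Nat.shiftLeft TT_p248 15990)) 15990)) 47970)) 79950)) 159900)) 335790)) 655590)) (Nat.shiftLeft (Nat.lor (Nat.lor (Nat.lor (Nat.lor (Nat.lor (Nat.lor TT_p249 (Nat.shiftLeft TT_p250 15990)) (Nat.shiftLeft (Nat.lor TT_p251 (Nat.shiftLeft (Nat.lor TT_p252 (Nat.shiftLeft TT_p253 15990)) 15990)) 31980)) (Nat.shiftLeft (Nat.lor (Nat.lor TT_p254 (Nat.shiftLeft TT_p255 15990)) (Nat.shiftLeft (Nat.lor TT_p256 (Nat.shiftLeft (Nat.lor TT_p257 (Nat.shiftLeft TT_p258 15990)) 15990)) 31980)) 79950)) (Nat.shiftLeft (Nat.lor (Nat.lor (Nat.lor TT_p259 (Nat.shiftLeft TT_p260 15990)) (Nat.shiftLeft (Nat.lor TT_p261 (Nat.shiftLeft (Nat.lor TT_p262 (Nat.shiftLeft TT_p263 15990)) 15990)) 31980)) (Nat.shiftLeft (Nat.lor (Nat.lor TT_p264 (Nat.shiftLeft (Nat.lor TT_p265 (Nat.shiftLeft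 TT_p266 15990)) 15990)) (Nat.shiftLeft (Nat.lor TT_p267 (Nat.shiftLeft (Nat.lor TT_p268 (Nat.shiftLeft TT_p269 15990)) 15990)) 47970)) 79950)) 159900)) (Nat.shiftLeft (Nat.lor (Nat.lor (Nat.lor (Nat.lor TT_p270 (Nat.shiftLeft TT_p271 15990)) (Nat.shiftLeft (Nat.lor TT_p272 (Nat.shiftLeft (Nat.lor TT_p273 (Nat.shiftLeft TT_p274 15990)) 15990)) 31980)) (Nat.shiftLeft (Nat.lor (Nat.lor TT_p275 (Nat.shiftLeft TT_p276 15990)) (Nat.shiftLeft (Nat.lor TT_p277 (Nat.shiftLeft (Nat.lor TT_p278 (Nat.shiftLeft TT_p279 15990)) 15990)) 31980)) 79950)) (Nat.shiftLeft (Nat.lor (Nat.lor (Nat.lor TT_p280 (Nat.shiftLeft TT_p281 15990)) (Nat.shiftLeft (Nat.lor TT_p282 (Nat.shiftLeft (Nat.lor TT_p283 (Nat.shiftLeft TT_p284 15990)) 15990)) 31980)) (Nat.shiftLeft (Nat.lor (Nat.lor TT_p285 (Nat.shiftLeft (Nat.lor TT_p286 (Nat.shiftLeft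 TT_p287 15990)) 15990)) (Nat.shiftLeft (Nat.lor TT_p288 (Nat.shiftLeft (Nat.lor TT_p289 (Nat.shiftLeft TT_p290 15990)) 15990)) 47970)) 79950)) 159900)) 335790)) (Nat.shiftLeft (Nat.lor (Nat.lor (Nat.lor (Nat.lor (Nat.lor TT_p291 (Nat.shiftLeft TT_p292 15990)) (Nat.shiftLeft (Nat.lor TT_p293 (Nat.shiftLeft (Nat.lor TT_p294 (Nat.shiftLeft TT_p295 15990)) 15990)) 31980)) (Nat.shiftLeft (Nat.lor (Nat.lor TT_p296 (Nat.shiftLeft TT_p297 15990)) (Nat.shiftLeft (Nat.lor TT_p298 (Nat.shiftLeft (Nat.lor TT_p299 (Nat.shiftLeft TT_p300 15990)) 15990)) 31980)) 79950)) (Nat.shiftLeft (Nat.lor (Nat.lor (Nat.lor TT_p301 (Nat.shiftLeft TT_p302 15990)) (Nat.shiftLeft (Nat.lor TT_p303 (Nat.shiftLeft (Nat.lor TT_p304 (Nat.shiftLeft TT_p305 15990)) 15990)) 31980)) (Nat.shiftLeft (Nat.lor (Nat.lor TT_p306 (Nat.shiftLeft (Nat.lor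 TT_p307 (Nat.shiftLeft TT_p308 15990)) 15990)) (Nat.shiftLeft (Nat.lor TT_p309 (Nat.shiftLeft (Nat.lor TT_p310 (Nat.shiftLeft TT_p311 15990)) 15990)) 47970)) 79950)) 159900)) (Nat.shiftLeft (Nat.lor (Nat.lor (Nat.lor (Nat.lor TT_p312 (Nat.shiftLeft TT_p313 15990)) (Nat.shiftLeft (Nat.lor TT_p314 (Nat.shiftLeft (Nat.lor TT_p315 (Nat.shiftLeft TT_p316 15990)) 15990)) 31980)) (Nat.shiftLeft (Nat.lor (Nat.lor TT_p317 (Nat.shiftLeft TT_p318 15990)) (Nat.shiftLeft (Nat.lor TT_p319 (Nat.shiftLeft (Nat.lor TT_p320 (Nat.shiftLeft TT_p321 15990)) 15990)) 31980)) 79950)) (Nat.shiftLeft (Nat.lor (Nat.lor (Nat.lor TT_p322 (Nat.shiftLeft TT_p323 15990)) (Nat.shiftLeft (Nat.lor TT_p324 (Nat.shiftLeft (Nat.lor TT_p325 (Nat.shiftLeft TT_p326 15990)) 15990)) 31980)) (Nat.shiftLeft (Nat.lor (Nat.lor TT_p327 (Nat.shiftLeft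 (Nat.lor TT_p328 (Nat.shiftLeft TT_p329 15990)) 15990)) (Nat.shiftLeft (Nat.lor TT_p330 (Nat.shiftLeft (Nat.lor TT_p331 (Nat.shiftLeft TT_p332 15990)) 15990)) 47970)) 79950)) 159900)) 335790)) 671580)) 1327170)) 2654340))
noncomputable def TT_M1 : Nat := Nat.sub (Nat.shiftLeft 1 425984) 1
noncomputable def TT_M2 : Nat := Nat.sub (Nat.shiftLeft 1 832) 1
noncomputable def TT (p : Nat) : Nat :=
  force (Nat.shiftRight p 15) fun b1 => force (Nat.land (Nat.shiftRight p 6) 511) fun b2 =>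
    Nat.land (Nat.shiftRight (Nat.land (Nat.shiftRight (Nat.land (Nat.shiftRight TT_T (Nat.mul b1 425984)) TT_M1) (Nat.mul b2 832)) TT_M2) (Nat.mul (Nat.land p 63) 13)) 8191

noncomputable def F (g p : Nat) : Nat := TT (Nat.add (Nat.mul g 4600) p)

def progL : List (List Nat) := [
  [],
  [],
  [0, 0, 0, 1, 0, 0, 0, 0, 1, 0, 1, 0, 0, 1, 0, 1, 0, 0, 0, 0, 0, 1, 0, 0, 0, 1, 0, 1, 1],
  [0, 1, 0, 0, 1, 0, 1, 0, 0, 1, 0, 1, 0, 1, 0, 1, 0, 1, 1, 0, 1, 1, 1, 0, 0, 0, 1, 0],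
  [2, 2, 3, 2, 2, 2, 3, 3, 2, 3, 2, 2, 2, 3, 3, 3, 2, 2, 3, 3, 3, 2, 3, 2],
  [3, 2, 3, 3, 2, 3, 3, 2, 2, 3, 3, 3, 2, 3, 2, 2, 3, 3, 2, 3, 3, 3, 3],
  [4, 5, 4, 4, 5, 4, 4, 4, 5, 4, 4, 4, 5, 5, 4, 5, 5, 5, 4, 5, 5, 4],
  [4, 4, 4, 5, 5, 5, 4, 4, 4, 4, 5, 5, 4, 4, 5, 5, 4, 4, 4, 4],
  [4, 5, 4, 4, 5, 5, 4, 4, 5, 4, 4, 5, 4, 5, 5, 5, 4, 5, 5, 4, 4, 5],
  [8, 7, 8, 6, 6, 8, 6, 6, 8, 8, 6, 6, 6, 6, 6, 7, 6, 8],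
  [6, 7, 7, 6, 8, 7, 8, 8, 7, 6, 7, 8, 7, 8, 6, 8, 8, 8],
  [0, 1, 1, 0, 1, 1, 0, 0, 0, 1, 1, 0],
  [11, 11, 11, 11, 11, 11, 11, 11, 11, 11, 11, 11, 11, 11, 11, 11, 11, 11, 11, 11, 11, 11],
  [1, 12, 1, 11],
  [0, 0, 0, 0, 1, 0, 1, 0, 1, 1, 1, 0],
  [14, 14, 14, 14, 14, 14, 14, 14, 14],
  [1, 15, 1, 14],
  [1, 0, 0, 1, 1, 0, 0, 0, 0, 1, 0, 1],
  [17, 17, 17, 17, 17, 17, 17, 17, 17, 17, 17, 17, 17],
  [1, 18, 1, 17],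
  [0, 0, 0, 1, 1, 1, 0, 1, 0, 0, 1, 0],
  [20, 20, 20, 20, 20, 20, 20, 20, 20, 20, 20, 20, 20, 20, 20, 20, 20, 20, 20, 20, 20, 20, 20, 20, 20, 20, 20, 20, 20],
  [1, 21, 1, 20],
  [13, 13],
  [16, 16],
  [19, 19],
  [20, 22],
  [23, 26, 23, 26, 23, 25, 23, 24, 25, 23, 23, 25, 26, 23, 23, 25, 24, 26],
  [23, 26, 26, 25, 24, 26, 24, 25, 24, 24, 23, 26, 25, 24, 26, 23, 25, 25, 26, 23],
  [28, 28, 28, 27, 28, 28, 28, 27, 27, 27, 28, 28, 27, 27, 27],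
  [27, 28, 27, 28, 28, 27, 27, 27, 28, 28, 27, 27, 27, 27, 27, 28, 27, 27, 27, 28],
  [27, 28, 27, 28, 28, 27, 27, 28, 28, 27, 27, 27, 28, 27, 28, 27, 27, 27, 27, 28, 28, 28, 27],
  [29, 31, 31, 29, 29, 31, 29, 29, 30, 30, 29, 30, 30, 30, 31, 29],
  [29, 30, 29, 31, 31, 30, 30, 31, 29, 31, 29, 29, 30, 29, 31, 31, 29, 30],
  [0, 0, 0, 1, 1, 1, 1, 1, 0, 0, 0, 1],
  [1, 1, 1, 1, 1, 0, 0, 1, 0, 1, 0, 0],
  [1, 0, 0, 1, 1, 1, 1, 0, 0, 0, 1, 1],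
  [0, 1, 1, 1, 0, 1, 0, 1, 1, 0, 1, 1],
  [1, 1, 1, 1, 1, 1, 0, 1, 0, 1, 1, 0],
  [0, 0, 1, 0, 1, 0, 1, 0, 0, 0, 1, 1],
  [0, 1, 1, 0, 1, 1, 0, 1, 0, 0, 0, 1],
  [0, 1, 0, 0, 0, 0, 0, 0, 0, 0, 0, 0],
  [34, 34, 34],
  [35, 35],
  [36, 36, 36, 36, 36, 36, 36, 36, 36, 36],
  [37, 37, 37, 37, 37, 37, 37, 37, 37, 37, 37, 37, 37, 37, 37],
  [38, 38, 38, 38, 38, 38],
  [39, 39, 39, 39, 39],
  [40, 40, 40],
  [41, 41, 41, 41, 41, 41],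
  [8, 7, 6, 8, 5, 4, 5, 4, 4, 4, 5, 5, 4, 5, 4],
  [9, 7, 7, 6, 8, 7, 8, 5, 5, 5, 4, 5, 4, 5, 5, 5, 4, 5, 2, 3, 2, 2, 2, 3, 2, 2, 3, 3, 3],
  [9, 7, 7, 6, 8, 7, 7, 4, 5, 4, 5, 4, 3, 3, 2, 3, 3, 3, 2],
  [9, 7, 8, 7, 8, 6, 7, 6, 7, 4, 5, 5, 5, 5, 4, 5, 5, 5, 2, 2, 3, 2, 3, 2, 3, 3, 2, 3, 3],
  [7, 8, 6, 6, 7, 8, 8, 4, 5, 5, 5, 5, 4, 5, 4, 5, 2, 2, 2, 2, 3, 2, 3, 3, 3, 2, 3, 3],
  [6, 8, 7, 6, 6, 8, 6, 4, 5, 4, 5, 5, 4, 5, 5, 2, 3, 3, 2, 3, 2, 3, 3, 3, 2],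
  [7, 7, 8, 7, 4, 5, 4, 5, 4, 4, 4, 5, 4, 5, 4, 3, 2, 2, 3, 2, 3, 2],
  [7, 7, 7, 6, 6, 5, 5, 4, 5, 5, 4, 5, 2, 2, 2, 2, 2, 3, 3, 2, 1, 0, 1, 0, 0, 0, 0, 1, 0, 0, 0, 0, 0, 1, 0],
  [7, 7, 8, 6, 6, 8, 8, 4, 4, 4, 5, 5, 5, 5, 4, 4, 5, 4, 5, 5, 2, 2, 2, 2, 2, 2, 2, 3, 2, 3, 3, 2, 0, 1, 0, 0, 0, 1, 0, 0, 0, 0, 1, 0, 1],
  [6, 8, 6, 7, 8, 6, 6, 4, 4, 4, 5, 4, 5, 4, 5, 5, 2, 2, 2, 2, 3, 3, 2, 3, 0, 0, 1, 0, 0, 0, 0, 0, 1, 0, 1, 0, 0, 1, 0, 1, 0],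
  [8, 7, 8, 6, 6, 7, 4, 4, 4, 5, 4, 4, 5, 4, 2, 2, 3, 3, 2, 2, 2, 2, 3, 3, 0, 1, 0, 1, 0, 0, 0, 0, 0, 1, 0, 1, 0, 1, 0, 0],
  [6, 6, 7, 6, 6, 7, 8, 5, 4, 4, 5, 5, 4, 5, 5, 5, 2, 3, 2, 2, 2, 3, 2, 2, 3, 0, 0, 1, 0, 0, 0, 0, 1, 0, 0, 0, 0, 0, 0, 0, 1, 0, 1],
  [7, 8, 6, 8, 6, 5, 4, 4, 5, 5, 5, 4, 4, 5, 4, 2, 2, 3, 2, 2, 3, 2, 3, 2, 3, 2, 0, 0, 1, 0, 0, 0, 1, 0, 0, 1, 0, 1, 0],
  [7, 6, 8, 6, 5, 5, 4, 4, 5, 4, 4, 2, 2, 3, 2, 2, 2, 3, 2, 3, 2, 2, 0, 0, 0, 1, 0, 0, 1, 0, 0, 0, 1, 0, 0, 0],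
  [7, 7, 6, 8, 7, 7, 6, 4, 4, 5, 4, 4, 5, 5, 5, 4, 5, 4, 3, 2, 3, 2, 3, 2, 2, 2, 2, 0, 0, 0, 0, 0, 1, 0, 1, 0, 0, 0, 0, 0, 0, 1, 0, 0, 1, 0],
  [6, 6, 6, 8, 6, 8, 7, 7, 5, 5, 4, 4, 4, 4, 5, 5, 4, 4, 3, 2, 2, 2, 3, 2, 3, 2, 3, 0, 0, 0, 1, 0, 0, 0, 0, 1, 0, 0, 0, 0, 1, 0],
  [8, 8, 6, 8, 7, 7, 7, 4, 4, 4, 5, 4, 4, 5, 4, 4, 5, 4, 2, 3, 2, 2, 2, 2, 3, 2, 2, 2, 2, 1],
  [9, 6, 7, 7, 8, 6, 4, 4, 4, 5, 4, 5, 5, 4, 4, 5, 2, 2, 2, 3, 3, 3, 2, 2, 2, 2, 0, 1, 0, 0, 1, 0, 0, 1, 0, 0, 1, 0, 1, 0, 0, 1],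
  [8, 6, 7, 6, 6, 7, 5, 5, 4, 4, 4, 5, 5, 4, 4, 3, 3, 2, 2, 3, 2, 2, 3, 2, 2, 0, 0, 1, 0, 0, 1, 0, 0, 0, 1, 0, 0, 1],
  [50],
  [53, 54, 57],
  [51, 63]]
def prog (g : Nat) : List Nat := progL.getD g []

def prog2L : List (List Nat) := [
  [],
  [],
  [73, 72, 73, 73, 72, 73, 72, 72, 72, 73, 72, 73, 73, 72, 72, 72, 73, 72, 73, 73, 73, 73, 72, 72, 72, 73, 72, 72, 72, 72, 73, 73, 72, 72, 73, 72, 73, 72, 73, 72],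
  [74],
  [72, 72, 72, 72, 73, 72, 72, 73, 73, 72, 72, 73],
  [76, 76, 76, 76, 76, 76, 76, 76, 76, 76],
  [73, 72, 72, 73, 72, 73, 72, 72, 72, 72, 72, 73],
  [78, 78, 78, 78, 78, 78, 78, 78],
  [73, 73, 72, 73, 72, 72, 73, 73, 73, 73, 73, 73],
  [80, 80, 80, 80, 80, 80],
  [73, 73, 72, 73, 73, 72, 72, 72, 72, 73, 73, 73],
  [82, 82, 82, 82, 82, 82, 82],
  [72, 73, 72, 73, 73, 73, 72, 73, 73, 72, 73, 72],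
  [84, 84, 84, 84, 84, 84, 84, 84, 84, 84],
  [73, 73, 72, 72, 73, 73, 73, 73, 73, 72, 73, 72, 73, 72, 72, 73, 72, 72, 73, 72, 73, 73, 73, 73, 72, 73, 72, 72, 72, 73, 73, 72, 73, 73, 73, 72, 73, 72, 73, 73],
  [86, 86, 86, 86, 86, 86, 86, 86, 86, 86, 86, 86, 86, 86, 86],
  [77, 79, 81, 77, 83, 85, 87, 85, 83, 77, 81, 79, 77]]
def prog2 (g : Nat) : List Nat := prog2L.getD (g - 72) []

noncomputable def dL0_pt_T : Nat := (Nat.lor (Nat.lor dL0_pt_p0 (Nat.shiftLeft dL0_pt_p1 15990)) (Nat.shiftLeft (Nat.lor dL0_pt_p2 (Nat.shiftLeft dL0_pt_p3 15990)) 31980))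
noncomputable def dL0_pt_M1 : Nat := Nat.sub (Nat.shiftLeft 1 53248) 1
noncomputable def dL0_pt_M2 : Nat := Nat.sub (Nat.shiftLeft 1 416) 1
noncomputable def dL0_pt (p : Nat) : Nat :=
  force (Nat.shiftRight p 12) fun b1 => force (Nat.land (Nat.shiftRight p 5) 127) fun b2 =>
    Nat.land (Nat.shiftRight (Nat.land (Nat.shiftRight (Nat.land (Nat.shiftRight dL0_pt_T (Nat.mul b1 53248)) dL0_pt_M1) (Nat.mul b2 416)) dL0_pt_M2) (Nat.mul (Nat.land p 31) 13)) 8191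

noncomputable def dL0_pi_T : Nat := (Nat.lor (Nat.lor dL0_pi_p0 (Nat.shiftLeft dL0_pi_p1 15990)) (Nat.shiftLeft (Nat.lor dL0_pi_p2 (Nat.shiftLeft dL0_pi_p3 15990)) 31980))
noncomputable def dL0_pi_M1 : Nat := Nat.sub (Nat.shiftLeft 1 53248) 1
noncomputable def dL0_pi_M2 : Nat := Nat.sub (Nat.shiftLeft 1 416) 1
noncomputable def dL0_pi (p : Nat) : Nat :=
  force (Nat.shiftRight p 12) fun b1 => force (Nat.land (Nat.shiftRight p 5) 127) fun b2 =>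
    Nat.land (Nat.shiftRight (Nat.land (Nat.shiftRight (Nat.land (Nat.shiftRight dL0_pi_T (Nat.mul b1 53248)) dL0_pi_M1) (Nat.mul b2 416)) dL0_pi_M2) (Nat.mul (Nat.land p 31) 13)) 8191

noncomputable def dL0_tr_T : Nat := (Nat.lor (Nat.lor dL0_tr_p0 (Nat.shiftLeft dL0_tr_p1 15988)) (Nat.shiftLeft (Nat.lor dL0_tr_p2 (Nat.shiftLeft (Nat.lor dL0_tr_p3 (Nat.shiftLeft dL0_tr_p4 15988)) 15988)) 31976))
noncomputable def dL0_tr_M1 : Nat := Nat.sub (Nat.shiftLeft 1 57344) 1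
noncomputable def dL0_tr_M2 : Nat := Nat.sub (Nat.shiftLeft 1 448) 1
noncomputable def dL0_tr (p : Nat) : Nat :=
  force (Nat.shiftRight p 12) fun b1 => force (Nat.land (Nat.shiftRight p 5) 127) fun b2 =>
    Nat.land (Nat.shiftRight (Nat.land (Nat.shiftRight (Nat.land (Nat.shiftRight dL0_tr_T (Nat.mul b1 57344)) dL0_tr_M1) (Nat.mul b2 448)) dL0_tr_M2) (Nat.mul (Nat.land p 31) 14)) 16383

noncomputable def dL0 : LevD := ⟨0, 4600, 2, 0, dL0_pt, dL0_pi, dL0_tr⟩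

noncomputable def dL1_pt_T : Nat := (Nat.lor dL1_pt_p0 (Nat.shiftLeft (Nat.lor dL1_pt_p1 (Nat.shiftLeft dL1_pt_p2 15990)) 15990))
noncomputable def dL1_pt_M1 : Nat := Nat.sub (Nat.shiftLeft 1 53248) 1
noncomputable def dL1_pt_M2 : Nat := Nat.sub (Nat.shiftLeft 1 416) 1
noncomputable def dL1_pt (p : Nat) : Nat :=
  force (Nat.shiftRight p 12) fun b1 => force (Nat.land (Nat.shiftRight p 5) 127) fun b2 =>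
    Nat.land (Nat.shiftRight (Nat.land (Nat.shiftRight (Nat.land (Nat.shiftRight dL1_pt_T (Nat.mul b1 53248)) dL1_pt_M1) (Nat.mul b2 416)) dL1_pt_M2) (Nat.mul (Nat.land p 31) 13)) 8191

noncomputable def dL1_pi_T : Nat := (Nat.lor (Nat.lor dL1_pi_p0 (Nat.shiftLeft dL1_pi_p1 15996)) (Nat.shiftLeft (Nat.lor dL1_pi_p2 (Nat.shiftLeft dL1_pi_p3 15996)) 31992))
noncomputable def dL1_pi_M1 : Nat := Nat.sub (Nat.shiftLeft 1 49152) 1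
noncomputable def dL1_pi_M2 : Nat := Nat.sub (Nat.shiftLeft 1 384) 1
noncomputable def dL1_pi (p : Nat) : Nat :=
  force (Nat.shiftRight p 12) fun b1 => force (Nat.land (Nat.shiftRight p 5) 127) fun b2 =>
    Nat.land (Nat.shiftRight (Nat.land (Nat.shiftRight (Nat.land (Nat.shiftRight dL1_pi_T (Nat.mul b1 49152)) dL1_pi_M1) (Nat.mul b2 384)) dL1_pi_M2) (Nat.mul (Nat.land p 31) 12)) 4095

noncomputable def dL1_tr_T : Nat := (Nat.lor dL1_tr_p0 (Nat.shiftLeft (Nat.lor dL1_tr_p1 (Nat.shiftLeft dL1_tr_p2 15990)) 15990))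
noncomputable def dL1_tr_M1 : Nat := Nat.sub (Nat.shiftLeft 1 53248) 1
noncomputable def dL1_tr_M2 : Nat := Nat.sub (Nat.shiftLeft 1 416) 1
noncomputable def dL1_tr (p : Nat) : Nat :=
  force (Nat.shiftRight p 12) fun b1 => force (Nat.land (Nat.shiftRight p 5) 127) fun b2 =>
    Nat.land (Nat.shiftRight (Nat.land (Nat.shiftRight (Nat.land (Nat.shiftRight dL1_tr_T (Nat.mul b1 53248)) dL1_tr_M1) (Nat.mul b2 416)) dL1_tr_M2) (Nat.mul (Nat.land p 31) 13)) 8191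

noncomputable def dL1 : LevD := ⟨556, 2816, 2, 2, dL1_pt, dL1_pi, dL1_tr⟩

noncomputable def dL2_pt_T : Nat := (Nat.lor dL2_pt_p0 (Nat.shiftLeft dL2_pt_p1 15990))
noncomputable def dL2_pt_M1 : Nat := Nat.sub (Nat.shiftLeft 1 53248) 1
noncomputable def dL2_pt_M2 : Nat := Nat.sub (Nat.shiftLeft 1 416) 1
noncomputable def dL2_pt (p : Nat) : Nat :=
  force (Nat.shiftRight p 12) fun b1 => force (Nat.land (Nat.shiftRight p 5) 127) fun b2 =>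
    Nat.land (Nat.shiftRight (Nat.land (Nat.shiftRight (Nat.land (Nat.shiftRight dL2_pt_T (Nat.mul b1 53248)) dL2_pt_M1) (Nat.mul b2 416)) dL2_pt_M2) (Nat.mul (Nat.land p 31) 13)) 8191

noncomputable def dL2_pi_T : Nat := (Nat.lor (Nat.lor dL2_pi_p0 (Nat.shiftLeft dL2_pi_p1 15994)) (Nat.shiftLeft (Nat.lor dL2_pi_p2 (Nat.shiftLeft dL2_pi_p3 15994)) 31988))
noncomputable def dL2_pi_M1 : Nat := Nat.sub (Nat.shiftLeft 1 45056) 1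
noncomputable def dL2_pi_M2 : Nat := Nat.sub (Nat.shiftLeft 1 352) 1
noncomputable def dL2_pi (p : Nat) : Nat :=
  force (Nat.shiftRight p 12) fun b1 => force (Nat.land (Nat.shiftRight p 5) 127) fun b2 =>
    Nat.land (Nat.shiftRight (Nat.land (Nat.shiftRight (Nat.land (Nat.shiftRight dL2_pi_T (Nat.mul b1 45056)) dL2_pi_M1) (Nat.mul b2 352)) dL2_pi_M2) (Nat.mul (Nat.land p 31) 11)) 2047

noncomputable def dL2_tr_T : Nat := (Nat.lor dL2_tr_p0 (Nat.shiftLeft dL2_tr_p1 15996))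
noncomputable def dL2_tr_M1 : Nat := Nat.sub (Nat.shiftLeft 1 49152) 1
noncomputable def dL2_tr_M2 : Nat := Nat.sub (Nat.shiftLeft 1 384) 1
noncomputable def dL2_tr (p : Nat) : Nat :=
  force (Nat.shiftRight p 12) fun b1 => force (Nat.land (Nat.shiftRight p 5) 127) fun b2 =>
    Nat.land (Nat.shiftRight (Nat.land (Nat.shiftRight (Nat.land (Nat.shiftRight dL2_tr_T (Nat.mul b1 49152)) dL2_tr_M1) (Nat.mul b2 384)) dL2_tr_M2) (Nat.mul (Nat.land p 31) 12)) 4095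

noncomputable def dL2 : LevD := ⟨562, 1680, 2, 4, dL2_pt, dL2_pi, dL2_tr⟩

noncomputable def dL3_pt_T : Nat := dL3_pt_p0
noncomputable def dL3_pt_M1 : Nat := Nat.sub (Nat.shiftLeft 1 53248) 1
noncomputable def dL3_pt_M2 : Nat := Nat.sub (Nat.shiftLeft 1 416) 1
noncomputable def dL3_pt (p : Nat) : Nat :=
  force (Nat.shiftRight p 12) fun b1 => force (Nat.land (Nat.shiftRight p 5) 127) fun b2 =>
    Nat.land (Nat.shiftRight (Nat.land (Nat.shiftRight (Nat.land (Nat.shiftRight dL3_pt_T (Nat.mul b1 53248)) dL3_pt_M1) (Nat.mul b2 416)) dL3_pt_M2) (Nat.mul (Nat.land p 31) 13)) 8191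

noncomputable def dL3_pi_T : Nat := (Nat.lor dL3_pi_p0 (Nat.shiftLeft (Nat.lor dL3_pi_p1 (Nat.shiftLeft dL3_pi_p2 16000)) 16000))
noncomputable def dL3_pi_M1 : Nat := Nat.sub (Nat.shiftLeft 1 40960) 1
noncomputable def dL3_pi_M2 : Nat := Nat.sub (Nat.shiftLeft 1 320) 1
noncomputable def dL3_pi (p : Nat) : Nat :=
  force (Nat.shiftRight p 12) fun b1 => force (Nat.land (Nat.shiftRight p 5) 127) fun b2 =>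
    Nat.land (Nat.shiftRight (Nat.land (Nat.shiftRight (Nat.land (Nat.shiftRight dL3_pi_T (Nat.mul b1 40960)) dL3_pi_M1) (Nat.mul b2 320)) dL3_pi_M2) (Nat.mul (Nat.land p 31) 10)) 1023

noncomputable def dL3_tr_T : Nat := dL3_tr_p0
noncomputable def dL3_tr_M1 : Nat := Nat.sub (Nat.shiftLeft 1 49152) 1
noncomputable def dL3_tr_M2 : Nat := Nat.sub (Nat.shiftLeft 1 384) 1
noncomputable def dL3_tr (p : Nat) : Nat :=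
  force (Nat.shiftRight p 12) fun b1 => force (Nat.land (Nat.shiftRight p 5) 127) fun b2 =>
    Nat.land (Nat.shiftRight (Nat.land (Nat.shiftRight (Nat.land (Nat.shiftRight dL3_tr_T (Nat.mul b1 49152)) dL3_tr_M1) (Nat.mul b2 384)) dL3_tr_M2) (Nat.mul (Nat.land p 31) 12)) 4095

noncomputable def dL3 : LevD := ⟨613, 972, 3, 6, dL3_pt, dL3_pi, dL3_tr⟩

noncomputable def dL4_pt_T : Nat := dL4_pt_p0
noncomputable def dL4_pt_M1 : Nat := Nat.sub (Nat.shiftLeft 1 53248) 1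
noncomputable def dL4_pt_M2 : Nat := Nat.sub (Nat.shiftLeft 1 416) 1
noncomputable def dL4_pt (p : Nat) : Nat :=
  force (Nat.shiftRight p 12) fun b1 => force (Nat.land (Nat.shiftRight p 5) 127) fun b2 =>
    Nat.land (Nat.shiftRight (Nat.land (Nat.shiftRight (Nat.land (Nat.shiftRight dL4_pt_T (Nat.mul b1 53248)) dL4_pt_M1) (Nat.mul b2 416)) dL4_pt_M2) (Nat.mul (Nat.land p 31) 13)) 8191

noncomputable def dL4_pi_T : Nat := dL4_pi_p0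
noncomputable def dL4_pi_M1 : Nat := Nat.sub (Nat.shiftLeft 1 8192) 1
noncomputable def dL4_pi_M2 : Nat := Nat.sub (Nat.shiftLeft 1 64) 1
noncomputable def dL4_pi (p : Nat) : Nat :=
  force (Nat.shiftRight p 12) fun b1 => force (Nat.land (Nat.shiftRight p 5) 127) fun b2 =>
    Nat.land (Nat.shiftRight (Nat.land (Nat.shiftRight (Nat.land (Nat.shiftRight dL4_pi_T (Nat.mul b1 8192)) dL4_pi_M1) (Nat.mul b2 64)) dL4_pi_M2) (Nat.mul (Nat.land p 31) 2)) 3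

noncomputable def dL4_tr_T : Nat := dL4_tr_p0
noncomputable def dL4_tr_M1 : Nat := Nat.sub (Nat.shiftLeft 1 4096) 1
noncomputable def dL4_tr_M2 : Nat := Nat.sub (Nat.shiftLeft 1 32) 1
noncomputable def dL4_tr (p : Nat) : Nat :=
  force (Nat.shiftRight p 12) fun b1 => force (Nat.land (Nat.shiftRight p 5) 127) fun b2 =>
    Nat.land (Nat.shiftRight (Nat.land (Nat.shiftRight (Nat.land (Nat.shiftRight dL4_tr_T (Nat.mul b1 4096)) dL4_tr_M1) (Nat.mul b2 32)) dL4_tr_M2) (Nat.mul (Nat.land p 31) 1)) 1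

noncomputable def dL4 : LevD := ⟨1, 2, 2, 9, dL4_pt, dL4_pi, dL4_tr⟩

noncomputable def cL0_pt_T : Nat := (Nat.lor (Nat.lor cL0_pt_p0 (Nat.shiftLeft cL0_pt_p1 15990)) (Nat.shiftLeft (Nat.lor cL0_pt_p2 (Nat.shiftLeft cL0_pt_p3 15990)) 31980))
noncomputable def cL0_pt_M1 : Nat := Nat.sub (Nat.shiftLeft 1 53248) 1
noncomputable def cL0_pt_M2 : Nat := Nat.sub (Nat.shiftLeft 1 416) 1
noncomputable def cL0_pt (p : Nat) : Nat :=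
  force (Nat.shiftRight p 12) fun b1 => force (Nat.land (Nat.shiftRight p 5) 127) fun b2 =>
    Nat.land (Nat.shiftRight (Nat.land (Nat.shiftRight (Nat.land (Nat.shiftRight cL0_pt_T (Nat.mul b1 53248)) cL0_pt_M1) (Nat.mul b2 416)) cL0_pt_M2) (Nat.mul (Nat.land p 31) 13)) 8191

noncomputable def cL0_pi_T : Nat := (Nat.lor (Nat.lor cL0_pi_p0 (Nat.shiftLeft cL0_pi_p1 15996)) (Nat.shiftLeft (Nat.lor cL0_pi_p2 (Nat.shiftLeft cL0_pi_p3 15996)) 31992))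
noncomputable def cL0_pi_M1 : Nat := Nat.sub (Nat.shiftLeft 1 49152) 1
noncomputable def cL0_pi_M2 : Nat := Nat.sub (Nat.shiftLeft 1 384) 1
noncomputable def cL0_pi (p : Nat) : Nat :=
  force (Nat.shiftRight p 12) fun b1 => force (Nat.land (Nat.shiftRight p 5) 127) fun b2 =>
    Nat.land (Nat.shiftRight (Nat.land (Nat.shiftRight (Nat.land (Nat.shiftRight cL0_pi_T (Nat.mul b1 49152)) cL0_pi_M1) (Nat.mul b2 384)) cL0_pi_M2) (Nat.mul (Nat.land p 31) 12)) 4095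

noncomputable def cL0_tr_T : Nat := (Nat.lor (Nat.lor cL0_tr_p0 (Nat.shiftLeft cL0_tr_p1 15988)) (Nat.shiftLeft (Nat.lor cL0_tr_p2 (Nat.shiftLeft cL0_tr_p3 15988)) 31976))
noncomputable def cL0_tr_M1 : Nat := Nat.sub (Nat.shiftLeft 1 57344) 1
noncomputable def cL0_tr_M2 : Nat := Nat.sub (Nat.shiftLeft 1 448) 1
noncomputable def cL0_tr (p : Nat) : Nat :=
  force (Nat.shiftRight p 12) fun b1 => force (Nat.land (Nat.shiftRight p 5) 127) fun b2 =>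
    Nat.land (Nat.shiftRight (Nat.land (Nat.shiftRight (Nat.land (Nat.shiftRight cL0_tr_T (Nat.mul b1 57344)) cL0_tr_M1) (Nat.mul b2 448)) cL0_tr_M2) (Nat.mul (Nat.land p 31) 14)) 16383

noncomputable def cL0 : LevD := ⟨1, 4032, 4, 23, cL0_pt, cL0_pi, cL0_tr⟩

noncomputable def cL1_pt_T : Nat := (Nat.lor cL1_pt_p0 (Nat.shiftLeft cL1_pt_p1 15990))
noncomputable def cL1_pt_M1 : Nat := Nat.sub (Nat.shiftLeft 1 53248) 1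
noncomputable def cL1_pt_M2 : Nat := Nat.sub (Nat.shiftLeft 1 416) 1
noncomputable def cL1_pt (p : Nat) : Nat :=
  force (Nat.shiftRight p 12) fun b1 => force (Nat.land (Nat.shiftRight p 5) 127) fun b2 =>
    Nat.land (Nat.shiftRight (Nat.land (Nat.shiftRight (Nat.land (Nat.shiftRight cL1_pt_T (Nat.mul b1 53248)) cL1_pt_M1) (Nat.mul b2 416)) cL1_pt_M2) (Nat.mul (Nat.land p 31) 13)) 8191

noncomputable def cL1_pi_T : Nat := (Nat.lor (Nat.lor cL1_pi_p0 (Nat.shiftLeft cL1_pi_p1 15994)) (Nat.shiftLeft (Nat.lor cL1_pi_p2 (Nat.shiftLeft cL1_pi_p3 15994)) 31988))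
noncomputable def cL1_pi_M1 : Nat := Nat.sub (Nat.shiftLeft 1 45056) 1
noncomputable def cL1_pi_M2 : Nat := Nat.sub (Nat.shiftLeft 1 352) 1
noncomputable def cL1_pi (p : Nat) : Nat :=
  force (Nat.shiftRight p 12) fun b1 => force (Nat.land (Nat.shiftRight p 5) 127) fun b2 =>
    Nat.land (Nat.shiftRight (Nat.land (Nat.shiftRight (Nat.land (Nat.shiftRight cL1_pi_T (Nat.mul b1 45056)) cL1_pi_M1) (Nat.mul b2 352)) cL1_pi_M2) (Nat.mul (Nat.land p 31) 11)) 2047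

noncomputable def cL1_tr_T : Nat := (Nat.lor cL1_tr_p0 (Nat.shiftLeft cL1_tr_p1 15996))
noncomputable def cL1_tr_M1 : Nat := Nat.sub (Nat.shiftLeft 1 49152) 1
noncomputable def cL1_tr_M2 : Nat := Nat.sub (Nat.shiftLeft 1 384) 1
noncomputable def cL1_tr (p : Nat) : Nat :=
  force (Nat.shiftRight p 12) fun b1 => force (Nat.land (Nat.shiftRight p 5) 127) fun b2 =>
    Nat.land (Nat.shiftRight (Nat.land (Nat.shiftRight (Nat.land (Nat.shiftRight cL1_tr_T (Nat.mul b1 49152)) cL1_tr_M1) (Nat.mul b2 384)) cL1_tr_M2) (Nat.mul (Nat.land p 31) 12)) 4095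

noncomputable def cL1 : LevD := ⟨301, 1440, 2, 27, cL1_pt, cL1_pi, cL1_tr⟩

noncomputable def cL2_pt_T : Nat := cL2_pt_p0
noncomputable def cL2_pt_M1 : Nat := Nat.sub (Nat.shiftLeft 1 53248) 1
noncomputable def cL2_pt_M2 : Nat := Nat.sub (Nat.shiftLeft 1 416) 1
noncomputable def cL2_pt (p : Nat) : Nat :=
  force (Nat.shiftRight p 12) fun b1 => force (Nat.land (Nat.shiftRight p 5) 127) fun b2 =>
    Nat.land (Nat.shiftRight (Nat.land (Nat.shiftRight (Nat.land (Nat.shiftRight cL2_pt_T (Nat.mul b1 53248)) cL2_pt_M1) (Nat.mul b2 416)) cL2_pt_M2) (Nat.mul (Nat.land p 31) 13)) 8191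

noncomputable def cL2_pi_T : Nat := (Nat.lor cL2_pi_p0 (Nat.shiftLeft (Nat.lor cL2_pi_p1 (Nat.shiftLeft cL2_pi_p2 15995)) 15995))
noncomputable def cL2_pi_M1 : Nat := Nat.sub (Nat.shiftLeft 1 28672) 1
noncomputable def cL2_pi_M2 : Nat := Nat.sub (Nat.shiftLeft 1 224) 1
noncomputable def cL2_pi (p : Nat) : Nat :=
  force (Nat.shiftRight p 12) fun b1 => force (Nat.land (Nat.shiftRight p 5) 127) fun b2 =>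
    Nat.land (Nat.shiftRight (Nat.land (Nat.shiftRight (Nat.land (Nat.shiftRight cL2_pi_T (Nat.mul b1 28672)) cL2_pi_M1) (Nat.mul b2 224)) cL2_pi_M2) (Nat.mul (Nat.land p 31) 7)) 127

noncomputable def cL2_tr_T : Nat := cL2_tr_p0
noncomputable def cL2_tr_M1 : Nat := Nat.sub (Nat.shiftLeft 1 32768) 1
noncomputable def cL2_tr_M2 : Nat := Nat.sub (Nat.shiftLeft 1 256) 1
noncomputable def cL2_tr (p : Nat) : Nat :=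
  force (Nat.shiftRight p 12) fun b1 => force (Nat.land (Nat.shiftRight p 5) 127) fun b2 =>
    Nat.land (Nat.shiftRight (Nat.land (Nat.shiftRight (Nat.land (Nat.shiftRight cL2_tr_T (Nat.mul b1 32768)) cL2_tr_M1) (Nat.mul b2 256)) cL2_tr_M2) (Nat.mul (Nat.land p 31) 8)) 255

noncomputable def cL2 : LevD := ⟨2, 64, 3, 29, cL2_pt, cL2_pi, cL2_tr⟩

noncomputable def cL3_pt_T : Nat := cL3_pt_p0
noncomputable def cL3_pt_M1 : Nat := Nat.sub (Nat.shiftLeft 1 53248) 1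
noncomputable def cL3_pt_M2 : Nat := Nat.sub (Nat.shiftLeft 1 416) 1
noncomputable def cL3_pt (p : Nat) : Nat :=
  force (Nat.shiftRight p 12) fun b1 => force (Nat.land (Nat.shiftRight p 5) 127) fun b2 =>
    Nat.land (Nat.shiftRight (Nat.land (Nat.shiftRight (Nat.land (Nat.shiftRight cL3_pt_T (Nat.mul b1 53248)) cL3_pt_M1) (Nat.mul b2 416)) cL3_pt_M2) (Nat.mul (Nat.land p 31) 13)) 8191

noncomputable def cL3_pi_T : Nat := cL3_pi_p0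
noncomputable def cL3_pi_M1 : Nat := Nat.sub (Nat.shiftLeft 1 8192) 1
noncomputable def cL3_pi_M2 : Nat := Nat.sub (Nat.shiftLeft 1 64) 1
noncomputable def cL3_pi (p : Nat) : Nat :=
  force (Nat.shiftRight p 12) fun b1 => force (Nat.land (Nat.shiftRight p 5) 127) fun b2 =>
    Nat.land (Nat.shiftRight (Nat.land (Nat.shiftRight (Nat.land (Nat.shiftRight cL3_pi_T (Nat.mul b1 8192)) cL3_pi_M1) (Nat.mul b2 64)) cL3_pi_M2) (Nat.mul (Nat.land p 31) 2)) 3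

noncomputable def cL3_tr_T : Nat := cL3_tr_p0
noncomputable def cL3_tr_M1 : Nat := Nat.sub (Nat.shiftLeft 1 4096) 1
noncomputable def cL3_tr_M2 : Nat := Nat.sub (Nat.shiftLeft 1 32) 1
noncomputable def cL3_tr (p : Nat) : Nat :=
  force (Nat.shiftRight p 12) fun b1 => force (Nat.land (Nat.shiftRight p 5) 127) fun b2 =>
    Nat.land (Nat.shiftRight (Nat.land (Nat.shiftRight (Nat.land (Nat.shiftRight cL3_tr_T (Nat.mul b1 4096)) cL3_tr_M1) (Nat.mul b2 32)) cL3_tr_M2) (Nat.mul (Nat.land p 31) 1)) 1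

noncomputable def cL3 : LevD := ⟨0, 2, 2, 32, cL3_pt, cL3_pi, cL3_tr⟩

noncomputable def ds : List LevD := [dL0, dL1, dL2, dL3, dL4]
noncomputable def cs : List LevD := [cL0, cL1, cL2, cL3]

noncomputable def FPL_T : Nat := (Nat.lor (Nat.lor (Nat.lor (Nat.lor (Nat.lor (Nat.lor FPL_p0 (Nat.shiftLeft FPL_p1 15998)) (Nat.shiftLeft (Nat.lor FPL_p2 (Nat.shiftLeft FPL_p3 15998)) 31996)) (Nat.shiftLeft (Nat.lor (Nat.lor FPL_p4 (Nat.shiftLeft FPL_p5 15998)) (Nat.shiftLeft (Nat.lor FPL_p6 (Nat.shiftLeft FPL_p7 15998)) 31996)) 63992)) (Nat.shiftLeft (Nat.lor (Nat.lor (Nat.lor FPL_p8 (Nat.shiftLeft FPL_p9 15998)) (Nat.shiftLeft (Nat.lor FPL_p10 (Nat.shiftLeft FPL_p11 15998)) 31996)) (Nat.shiftLeft (Nat.lor (Nat.lor FPL_p12 (Nat.shiftLeft FPL_p13 15998)) (Nat.shiftLeft (Nat.lor FPL_p14 (Nat.shiftLeft (Nat.lor FPL_p15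 (Nat.shiftLeft FPL_p16 15998)) 15998)) 31996)) 63992)) 127984)) (Nat.shiftLeft (Nat.lor (Nat.lor (Nat.lor (Nat.lor FPL_p17 (Nat.shiftLeft FPL_p18 15998)) (Nat.shiftLeft (Nat.lor FPL_p19 (Nat.shiftLeft FPL_p20 15998)) 31996)) (Nat.shiftLeft (Nat.lor (Nat.lor FPL_p21 (Nat.shiftLeft FPL_p22 15998)) (Nat.shiftLeft (Nat.lor FPL_p23 (Nat.shiftLeft FPL_p24 15998)) 31996)) 63992)) (Nat.shiftLeft (Nat.lor (Nat.lor (Nat.lor FPL_p25 (Nat.shiftLeft FPL_p26 15998)) (Nat.shiftLeft (Nat.lor FPL_p27 (Nat.shiftLeft FPL_p28 15998)) 31996)) (Nat.shiftLeft (Nat.lor (Nat.lor FPL_p29 (Nat.shiftLeft FPL_p30 15998)) (Nat.shiftLeft (Nat.lor FPL_p31 (Nat.shiftLeft (Nat.lor FPL_p32 (Nat.shiftLeft FPL_p33 15998)) 15998)) 31996)) 63992)) 127984)) 271966)) (Nat.shiftLeft (Nat.lor (Nat.lor (Nat.lor (Nat.lor (Nat.lor FPL_p34 (Nat.shiftLeft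 FPL_p35 15998)) (Nat.shiftLeft (Nat.lor FPL_p36 (Nat.shiftLeft FPL_p37 15998)) 31996)) (Nat.shiftLeft (Nat.lor (Nat.lor FPL_p38 (Nat.shiftLeft FPL_p39 15998)) (Nat.shiftLeft (Nat.lor FPL_p40 (Nat.shiftLeft FPL_p41 15998)) 31996)) 63992)) (Nat.shiftLeft (Nat.lor (Nat.lor (Nat.lor FPL_p42 (Nat.shiftLeft FPL_p43 15998)) (Nat.shiftLeft (Nat.lor FPL_p44 (Nat.shiftLeft FPL_p45 15998)) 31996)) (Nat.shiftLeft (Nat.lor (Nat.lor FPL_p46 (Nat.shiftLeft FPL_p47 15998)) (Nat.shiftLeft (Nat.lor FPL_p48 (Nat.shiftLeft (Nat.lor FPL_p49 (Nat.shiftLeft FPL_p50 15998)) 15998)) 31996)) 63992)) 127984)) (Nat.shiftLeft (Nat.lor (Nat.lor (Nat.lor (Nat.lor FPL_p51 (Nat.shiftLeft FPL_p52 15998)) (Nat.shiftLeft (Nat.lor FPL_p53 (Nat.shiftLeft FPL_p54 15998)) 31996)) (Nat.shiftLeft (Nat.lor (Nat.lor FPL_p55 (Nat.shiftLeft FPL_p56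 15998)) (Nat.shiftLeft (Nat.lor FPL_p57 (Nat.shiftLeft FPL_p58 15998)) 31996)) 63992)) (Nat.shiftLeft (Nat.lor (Nat.lor (Nat.lor FPL_p59 (Nat.shiftLeft FPL_p60 15998)) (Nat.shiftLeft (Nat.lor FPL_p61 (Nat.shiftLeft FPL_p62 15998)) 31996)) (Nat.shiftLeft (Nat.lor (Nat.lor FPL_p63 (Nat.shiftLeft FPL_p64 15998)) (Nat.shiftLeft (Nat.lor FPL_p65 (Nat.shiftLeft (Nat.lor FPL_p66 (Nat.shiftLeft FPL_p67 15998)) 15998)) 31996)) 63992)) 127984)) 271966)) 543932))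
noncomputable def FPL_M1 : Nat := Nat.sub (Nat.shiftLeft 1 77824) 1
noncomputable def FPL_M2 : Nat := Nat.sub (Nat.shiftLeft 1 608) 1
noncomputable def FPL (p : Nat) : Nat :=
  force (Nat.shiftRight p 12) fun b1 => force (Nat.land (Nat.shiftRight p 5) 127) fun b2 =>
    Nat.land (Nat.shiftRight (Nat.land (Nat.shiftRight (Nat.land (Nat.shiftRight FPL_T (Nat.mul b1 77824)) FPL_M1) (Nat.mul b2 608)) FPL_M2) (Nat.mul (Nat.land p 31) 19)) 524287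

noncomputable def DD : Frs := ⟨1, 42258, FPL, 8, 42, 8, 56925, [4089, 981, 1080, 4322, 3790]⟩

noncomputable def SPK_T : Nat := (Nat.lor (Nat.lor (Nat.lor (Nat.lor (Nat.lor (Nat.lor (Nat.lor (Nat.lor (Nat.lor SPK_p0 (Nat.shiftLeft SPK_p1 15990)) (Nat.shiftLeft (Nat.lor SPK_p2 (Nat.shiftLeft (Nat.lor SPK_p3 (Nat.shiftLeft SPK_p4 15990)) 15990)) 31980)) (Nat.shiftLeft (Nat.lor (Nat.lor SPK_p5 (Nat.shiftLeft SPK_p6 15990)) (Nat.shiftLeft (Nat.lor SPK_p7 (Nat.shiftLeft (Nat.lor SPK_p8 (Nat.shiftLeft SPK_p9 15990)) 15990)) 31980)) 79950)) (Nat.shiftLeft (Nat.lor (Nat.lor (Nat.lor SPK_p10 (Nat.shiftLeft SPK_p11 15990)) (Nat.shiftLeft (Nat.lor SPK_p12 (Nat.shiftLeft (Nat.lor SPK_p13 (Nat.shiftLeft SPK_p14 15990)) 15990)) 31980)) (Nat.shiftLeft (Nat.lor (Nat.lor SPK_p15 (Nat.shiftLeft SPK_p16 15990)) (Nat.shiftLeft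 (Nat.lor SPK_p17 (Nat.shiftLeft (Nat.lor SPK_p18 (Nat.shiftLeft SPK_p19 15990)) 15990)) 31980)) 79950)) 159900)) (Nat.shiftLeft (Nat.lor (Nat.lor (Nat.lor (Nat.lor SPK_p20 (Nat.shiftLeft SPK_p21 15990)) (Nat.shiftLeft (Nat.lor SPK_p22 (Nat.shiftLeft (Nat.lor SPK_p23 (Nat.shiftLeft SPK_p24 15990)) 15990)) 31980)) (Nat.shiftLeft (Nat.lor (Nat.lor SPK_p25 (Nat.shiftLeft SPK_p26 15990)) (Nat.shiftLeft (Nat.lor SPK_p27 (Nat.shiftLeft (Nat.lor SPK_p28 (Nat.shiftLeft SPK_p29 15990)) 15990)) 31980)) 79950)) (Nat.shiftLeft (Nat.lor (Nat.lor (Nat.lor SPK_p30 (Nat.shiftLeft SPK_p31 15990)) (Nat.shiftLeft (Nat.lor SPK_p32 (Nat.shiftLeft (Nat.lor SPK_p33 (Nat.shiftLeft SPK_p34 15990)) 15990)) 31980)) (Nat.shiftLeft (Nat.lor (Nat.lor SPK_p35 (Nat.shiftLeft SPK_p36 15990)) (Nat.shiftLeft (Nat.lor SPK_p37 (Nat.shiftLeft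 (Nat.lor SPK_p38 (Nat.shiftLeft SPK_p39 15990)) 15990)) 31980)) 79950)) 159900)) 319800)) (Nat.shiftLeft (Nat.lor (Nat.lor (Nat.lor (Nat.lor (Nat.lor SPK_p40 (Nat.shiftLeft SPK_p41 15990)) (Nat.shiftLeft (Nat.lor SPK_p42 (Nat.shiftLeft (Nat.lor SPK_p43 (Nat.shiftLeft SPK_p44 15990)) 15990)) 31980)) (Nat.shiftLeft (Nat.lor (Nat.lor SPK_p45 (Nat.shiftLeft SPK_p46 15990)) (Nat.shiftLeft (Nat.lor SPK_p47 (Nat.shiftLeft (Nat.lor SPK_p48 (Nat.shiftLeft SPK_p49 15990)) 15990)) 31980)) 79950)) (Nat.shiftLeft (Nat.lor (Nat.lor (Nat.lor SPK_p50 (Nat.shiftLeft SPK_p51 15990)) (Nat.shiftLeft (Nat.lor SPK_p52 (Nat.shiftLeft (Nat.lor SPK_p53 (Nat.shiftLeft SPK_p54 15990)) 15990)) 31980)) (Nat.shiftLeft (Nat.lor (Nat.lor SPK_p55 (Nat.shiftLeft SPK_p56 15990)) (Nat.shiftLeft (Nat.lor SPK_p57 (Nat.shiftLeft (Nat.lor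 SPK_p58 (Nat.shiftLeft SPK_p59 15990)) 15990)) 31980)) 79950)) 159900)) (Nat.shiftLeft (Nat.lor (Nat.lor (Nat.lor (Nat.lor SPK_p60 (Nat.shiftLeft SPK_p61 15990)) (Nat.shiftLeft (Nat.lor SPK_p62 (Nat.shiftLeft (Nat.lor SPK_p63 (Nat.shiftLeft SPK_p64 15990)) 15990)) 31980)) (Nat.shiftLeft (Nat.lor (Nat.lor SPK_p65 (Nat.shiftLeft SPK_p66 15990)) (Nat.shiftLeft (Nat.lor SPK_p67 (Nat.shiftLeft (Nat.lor SPK_p68 (Nat.shiftLeft SPK_p69 15990)) 15990)) 31980)) 79950)) (Nat.shiftLeft (Nat.lor (Nat.lor (Nat.lor SPK_p70 (Nat.shiftLeft SPK_p71 15990)) (Nat.shiftLeft (Nat.lor SPK_p72 (Nat.shiftLeft (Nat.lor SPK_p73 (Nat.shiftLeft SPK_p74 15990)) 15990)) 31980)) (Nat.shiftLeft (Nat.lor (Nat.lor SPK_p75 (Nat.shiftLeft SPK_p76 15990)) (Nat.shiftLeft (Nat.lor SPK_p77 (Nat.shiftLeft (Nat.lor SPK_p78 (Nat.shiftLeft SPK_p79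 15990)) 15990)) 31980)) 79950)) 159900)) 319800)) 639600)) (Nat.shiftLeft (Nat.lor (Nat.lor (Nat.lor (Nat.lor (Nat.lor (Nat.lor SPK_p80 (Nat.shiftLeft SPK_p81 15990)) (Nat.shiftLeft (Nat.lor SPK_p82 (Nat.shiftLeft (Nat.lor SPK_p83 (Nat.shiftLeft SPK_p84 15990)) 15990)) 31980)) (Nat.shiftLeft (Nat.lor (Nat.lor SPK_p85 (Nat.shiftLeft SPK_p86 15990)) (Nat.shiftLeft (Nat.lor SPK_p87 (Nat.shiftLeft (Nat.lor SPK_p88 (Nat.shiftLeft SPK_p89 15990)) 15990)) 31980)) 79950)) (Nat.shiftLeft (Nat.lor (Nat.lor (Nat.lor SPK_p90 (Nat.shiftLeft SPK_p91 15990)) (Nat.shiftLeft (Nat.lor SPK_p92 (Nat.shiftLeft (Nat.lor SPK_p93 (Nat.shiftLeft SPK_p94 15990)) 15990)) 31980)) (Nat.shiftLeft (Nat.lor (Nat.lor SPK_p95 (Nat.shiftLeft SPK_p96 15990)) (Nat.shiftLeft (Nat.lor SPK_p97 (Nat.shiftLeft (Nat.lor SPK_p98 (Nat.shiftLeft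 SPK_p99 15990)) 15990)) 31980)) 79950)) 159900)) (Nat.shiftLeft (Nat.lor (Nat.lor (Nat.lor (Nat.lor SPK_p100 (Nat.shiftLeft SPK_p101 15990)) (Nat.shiftLeft (Nat.lor SPK_p102 (Nat.shiftLeft (Nat.lor SPK_p103 (Nat.shiftLeft SPK_p104 15990)) 15990)) 31980)) (Nat.shiftLeft (Nat.lor (Nat.lor SPK_p105 (Nat.shiftLeft SPK_p106 15990)) (Nat.shiftLeft (Nat.lor SPK_p107 (Nat.shiftLeft (Nat.lor SPK_p108 (Nat.shiftLeft SPK_p109 15990)) 15990)) 31980)) 79950)) (Nat.shiftLeft (Nat.lor (Nat.lor (Nat.lor SPK_p110 (Nat.shiftLeft SPK_p111 15990)) (Nat.shiftLeft (Nat.lor SPK_p112 (Nat.shiftLeft (Nat.lor SPK_p113 (Nat.shiftLeft SPK_p114 15990)) 15990)) 31980)) (Nat.shiftLeft (Nat.lor (Nat.lor SPK_p115 (Nat.shiftLeft SPK_p116 15990)) (Nat.shiftLeft (Nat.lor SPK_p117 (Nat.shiftLeft (Nat.lor SPK_p118 (Nat.shiftLeft SPK_p119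 15990)) 15990)) 31980)) 79950)) 159900)) 319800)) (Nat.shiftLeft (Nat.lor (Nat.lor (Nat.lor (Nat.lor (Nat.lor SPK_p120 (Nat.shiftLeft SPK_p121 15990)) (Nat.shiftLeft (Nat.lor SPK_p122 (Nat.shiftLeft (Nat.lor SPK_p123 (Nat.shiftLeft SPK_p124 15990)) 15990)) 31980)) (Nat.shiftLeft (Nat.lor (Nat.lor SPK_p125 (Nat.shiftLeft SPK_p126 15990)) (Nat.shiftLeft (Nat.lor SPK_p127 (Nat.shiftLeft (Nat.lor SPK_p128 (Nat.shiftLeft SPK_p129 15990)) 15990)) 31980)) 79950)) (Nat.shiftLeft (Nat.lor (Nat.lor (Nat.lor SPK_p130 (Nat.shiftLeft SPK_p131 15990)) (Nat.shiftLeft (Nat.lor SPK_p132 (Nat.shiftLeft (Nat.lor SPK_p133 (Nat.shiftLeft SPK_p134 15990)) 15990)) 31980)) (Nat.shiftLeft (Nat.lor (Nat.lor SPK_p135 (Nat.shiftLeft SPK_p136 15990)) (Nat.shiftLeft (Nat.lor SPK_p137 (Nat.shiftLeft (Nat.lor SPK_p138 (Nat.shiftLeft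 SPK_p139 15990)) 15990)) 31980)) 79950)) 159900)) (Nat.shiftLeft (Nat.lor (Nat.lor (Nat.lor (Nat.lor SPK_p140 (Nat.shiftLeft SPK_p141 15990)) (Nat.shiftLeft (Nat.lor SPK_p142 (Nat.shiftLeft (Nat.lor SPK_p143 (Nat.shiftLeft SPK_p144 15990)) 15990)) 31980)) (Nat.shiftLeft (Nat.lor (Nat.lor SPK_p145 (Nat.shiftLeft SPK_p146 15990)) (Nat.shiftLeft (Nat.lor SPK_p147 (Nat.shiftLeft (Nat.lor SPK_p148 (Nat.shiftLeft SPK_p149 15990)) 15990)) 31980)) 79950)) (Nat.shiftLeft (Nat.lor (Nat.lor (Nat.lor SPK_p150 (Nat.shiftLeft SPK_p151 15990)) (Nat.shiftLeft (Nat.lor SPK_p152 (Nat.shiftLeft (Nat.lor SPK_p153 (Nat.shiftLeft SPK_p154 15990)) 15990)) 31980)) (Nat.shiftLeft (Nat.lor (Nat.lor SPK_p155 (Nat.shiftLeft SPK_p156 15990)) (Nat.shiftLeft (Nat.lor SPK_p157 (Nat.shiftLeft (Nat.lor SPK_p158 (Nat.shiftLeft SPK_p159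 15990)) 15990)) 31980)) 79950)) 159900)) 319800)) 639600)) 1279200)) (Nat.shiftLeft (Nat.lor (Nat.lor (Nat.lor (Nat.lor (Nat.lor (Nat.lor (Nat.lor SPK_p160 (Nat.shiftLeft SPK_p161 15990)) (Nat.shiftLeft (Nat.lor SPK_p162 (Nat.shiftLeft (Nat.lor SPK_p163 (Nat.shiftLeft SPK_p164 15990)) 15990)) 31980)) (Nat.shiftLeft (Nat.lor (Nat.lor SPK_p165 (Nat.shiftLeft SPK_p166 15990)) (Nat.shiftLeft (Nat.lor SPK_p167 (Nat.shiftLeft (Nat.lor SPK_p168 (Nat.shiftLeft SPK_p169 15990)) 15990)) 31980)) 79950)) (Nat.shiftLeft (Nat.lor (Nat.lor (Nat.lor SPK_p170 (Nat.shiftLeft SPK_p171 15990)) (Nat.shiftLeft (Nat.lor SPK_p172 (Nat.shiftLeft (Nat.lor SPK_p173 (Nat.shiftLeft SPK_p174 15990)) 15990)) 31980)) (Nat.shiftLeft (Nat.lor (Nat.lor SPK_p175 (Nat.shiftLeft SPK_p176 15990)) (Nat.shiftLeft (Nat.lor SPK_p177 (Nat.shiftLeft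 (Nat.lor SPK_p178 (Nat.shiftLeft SPK_p179 15990)) 15990)) 31980)) 79950)) 159900)) (Nat.shiftLeft (Nat.lor (Nat.lor (Nat.lor (Nat.lor SPK_p180 (Nat.shiftLeft SPK_p181 15990)) (Nat.shiftLeft (Nat.lor SPK_p182 (Nat.shiftLeft (Nat.lor SPK_p183 (Nat.shiftLeft SPK_p184 15990)) 15990)) 31980)) (Nat.shiftLeft (Nat.lor (Nat.lor SPK_p185 (Nat.shiftLeft SPK_p186 15990)) (Nat.shiftLeft (Nat.lor SPK_p187 (Nat.shiftLeft (Nat.lor SPK_p188 (Nat.shiftLeft SPK_p189 15990)) 15990)) 31980)) 79950)) (Nat.shiftLeft (Nat.lor (Nat.lor (Nat.lor SPK_p190 (Nat.shiftLeft SPK_p191 15990)) (Nat.shiftLeft (Nat.lor SPK_p192 (Nat.shiftLeft (Nat.lor SPK_p193 (Nat.shiftLeft SPK_p194 15990)) 15990)) 31980)) (Nat.shiftLeft (Nat.lor (Nat.lor SPK_p195 (Nat.shiftLeft SPK_p196 15990)) (Nat.shiftLeft (Nat.lor SPK_p197 (Nat.shiftLeft (Nat.lor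 SPK_p198 (Nat.shiftLeft SPK_p199 15990)) 15990)) 31980)) 79950)) 159900)) 319800)) (Nat.shiftLeft (Nat.lor (Nat.lor (Nat.lor (Nat.lor (Nat.lor SPK_p200 (Nat.shiftLeft SPK_p201 15990)) (Nat.shiftLeft (Nat.lor SPK_p202 (Nat.shiftLeft (Nat.lor SPK_p203 (Nat.shiftLeft SPK_p204 15990)) 15990)) 31980)) (Nat.shiftLeft (Nat.lor (Nat.lor SPK_p205 (Nat.shiftLeft SPK_p206 15990)) (Nat.shiftLeft (Nat.lor SPK_p207 (Nat.shiftLeft (Nat.lor SPK_p208 (Nat.shiftLeft SPK_p209 15990)) 15990)) 31980)) 79950)) (Nat.shiftLeft (Nat.lor (Nat.lor (Nat.lor SPK_p210 (Nat.shiftLeft SPK_p211 15990)) (Nat.shiftLeft (Nat.lor SPK_p212 (Nat.shiftLeft (Nat.lor SPK_p213 (Nat.shiftLeft SPK_p214 15990)) 15990)) 31980)) (Nat.shiftLeft (Nat.lor (Nat.lor SPK_p215 (Nat.shiftLeft SPK_p216 15990)) (Nat.shiftLeft (Nat.lor SPK_p217 (Nat.shiftLeft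 (Nat.lor SPK_p218 (Nat.shiftLeft SPK_p219 15990)) 15990)) 31980)) 79950)) 159900)) (Nat.shiftLeft (Nat.lor (Nat.lor (Nat.lor (Nat.lor SPK_p220 (Nat.shiftLeft SPK_p221 15990)) (Nat.shiftLeft (Nat.lor SPK_p222 (Nat.shiftLeft (Nat.lor SPK_p223 (Nat.shiftLeft SPK_p224 15990)) 15990)) 31980)) (Nat.shiftLeft (Nat.lor (Nat.lor SPK_p225 (Nat.shiftLeft SPK_p226 15990)) (Nat.shiftLeft (Nat.lor SPK_p227 (Nat.shiftLeft (Nat.lor SPK_p228 (Nat.shiftLeft SPK_p229 15990)) 15990)) 31980)) 79950)) (Nat.shiftLeft (Nat.lor (Nat.lor (Nat.lor SPK_p230 (Nat.shiftLeft SPK_p231 15990)) (Nat.shiftLeft (Nat.lor SPK_p232 (Nat.shiftLeft (Nat.lor SPK_p233 (Nat.shiftLeft SPK_p234 15990)) 15990)) 31980)) (Nat.shiftLeft (Nat.lor (Nat.lor SPK_p235 (Nat.shiftLeft SPK_p236 15990)) (Nat.shiftLeft (Nat.lor SPK_p237 (Nat.shiftLeft (Nat.lor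 SPK_p238 (Nat.shiftLeft SPK_p239 15990)) 15990)) 31980)) 79950)) 159900)) 319800)) 639600)) (Nat.shiftLeft (Nat.lor (Nat.lor (Nat.lor (Nat.lor (Nat.lor (Nat.lor SPK_p240 (Nat.shiftLeft SPK_p241 15990)) (Nat.shiftLeft (Nat.lor SPK_p242 (Nat.shiftLeft (Nat.lor SPK_p243 (Nat.shiftLeft SPK_p244 15990)) 15990)) 31980)) (Nat.shiftLeft (Nat.lor (Nat.lor SPK_p245 (Nat.shiftLeft SPK_p246 15990)) (Nat.shiftLeft (Nat.lor SPK_p247 (Nat.shiftLeft (Nat.lor SPK_p248 (Nat.shiftLeft SPK_p249 15990)) 15990)) 31980)) 79950)) (Nat.shiftLeft (Nat.lor (Nat.lor (Nat.lor SPK_p250 (Nat.shiftLeft SPK_p251 15990)) (Nat.shiftLeft (Nat.lor SPK_p252 (Nat.shiftLeft (Nat.lor SPK_p253 (Nat.shiftLeft SPK_p254 15990)) 15990)) 31980)) (Nat.shiftLeft (Nat.lor (Nat.lor SPK_p255 (Nat.shiftLeft SPK_p256 15990)) (Nat.shiftLeft (Nat.lor SPK_p257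 (Nat.shiftLeft (Nat.lor SPK_p258 (Nat.shiftLeft SPK_p259 15990)) 15990)) 31980)) 79950)) 159900)) (Nat.shiftLeft (Nat.lor (Nat.lor (Nat.lor (Nat.lor SPK_p260 (Nat.shiftLeft SPK_p261 15990)) (Nat.shiftLeft (Nat.lor SPK_p262 (Nat.shiftLeft (Nat.lor SPK_p263 (Nat.shiftLeft SPK_p264 15990)) 15990)) 31980)) (Nat.shiftLeft (Nat.lor (Nat.lor SPK_p265 (Nat.shiftLeft SPK_p266 15990)) (Nat.shiftLeft (Nat.lor SPK_p267 (Nat.shiftLeft (Nat.lor SPK_p268 (Nat.shiftLeft SPK_p269 15990)) 15990)) 31980)) 79950)) (Nat.shiftLeft (Nat.lor (Nat.lor (Nat.lor SPK_p270 (Nat.shiftLeft SPK_p271 15990)) (Nat.shiftLeft (Nat.lor SPK_p272 (Nat.shiftLeft (Nat.lor SPK_p273 (Nat.shiftLeft SPK_p274 15990)) 15990)) 31980)) (Nat.shiftLeft (Nat.lor (Nat.lor SPK_p275 (Nat.shiftLeft SPK_p276 15990)) (Nat.shiftLeft (Nat.lor SPK_p277 (Nat.shiftLeft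 (Nat.lor SPK_p278 (Nat.shiftLeft SPK_p279 15990)) 15990)) 31980)) 79950)) 159900)) 319800)) (Nat.shiftLeft (Nat.lor (Nat.lor (Nat.lor (Nat.lor (Nat.lor SPK_p280 (Nat.shiftLeft SPK_p281 15990)) (Nat.shiftLeft (Nat.lor SPK_p282 (Nat.shiftLeft (Nat.lor SPK_p283 (Nat.shiftLeft SPK_p284 15990)) 15990)) 31980)) (Nat.shiftLeft (Nat.lor (Nat.lor SPK_p285 (Nat.shiftLeft SPK_p286 15990)) (Nat.shiftLeft (Nat.lor SPK_p287 (Nat.shiftLeft (Nat.lor SPK_p288 (Nat.shiftLeft SPK_p289 15990)) 15990)) 31980)) 79950)) (Nat.shiftLeft (Nat.lor (Nat.lor (Nat.lor SPK_p290 (Nat.shiftLeft SPK_p291 15990)) (Nat.shiftLeft (Nat.lor SPK_p292 (Nat.shiftLeft (Nat.lor SPK_p293 (Nat.shiftLeft SPK_p294 15990)) 15990)) 31980)) (Nat.shiftLeft (Nat.lor (Nat.lor SPK_p295 (Nat.shiftLeft SPK_p296 15990)) (Nat.shiftLeft (Nat.lor SPK_p297 (Nat.shiftLeft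 (Nat.lor SPK_p298 (Nat.shiftLeft SPK_p299 15990)) 15990)) 31980)) 79950)) 159900)) (Nat.shiftLeft (Nat.lor (Nat.lor (Nat.lor (Nat.lor SPK_p300 (Nat.shiftLeft SPK_p301 15990)) (Nat.shiftLeft (Nat.lor SPK_p302 (Nat.shiftLeft (Nat.lor SPK_p303 (Nat.shiftLeft SPK_p304 15990)) 15990)) 31980)) (Nat.shiftLeft (Nat.lor (Nat.lor SPK_p305 (Nat.shiftLeft SPK_p306 15990)) (Nat.shiftLeft (Nat.lor SPK_p307 (Nat.shiftLeft (Nat.lor SPK_p308 (Nat.shiftLeft SPK_p309 15990)) 15990)) 31980)) 79950)) (Nat.shiftLeft (Nat.lor (Nat.lor (Nat.lor SPK_p310 (Nat.shiftLeft SPK_p311 15990)) (Nat.shiftLeft (Nat.lor SPK_p312 (Nat.shiftLeft (Nat.lor SPK_p313 (Nat.shiftLeft SPK_p314 15990)) 15990)) 31980)) (Nat.shiftLeft (Nat.lor (Nat.lor SPK_p315 (Nat.shiftLeft SPK_p316 15990)) (Nat.shiftLeft (Nat.lor SPK_p317 (Nat.shiftLeft (Nat.lor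 SPK_p318 (Nat.shiftLeft SPK_p319 15990)) 15990)) 31980)) 79950)) 159900)) 319800)) 639600)) 1279200)) 2558400)) (Nat.shiftLeft (Nat.lor (Nat.lor (Nat.lor (Nat.lor (Nat.lor (Nat.lor (Nat.lor (Nat.lor SPK_p320 (Nat.shiftLeft SPK_p321 15990)) (Nat.shiftLeft (Nat.lor SPK_p322 (Nat.shiftLeft (Nat.lor SPK_p323 (Nat.shiftLeft SPK_p324 15990)) 15990)) 31980)) (Nat.shiftLeft (Nat.lor (Nat.lor SPK_p325 (Nat.shiftLeft SPK_p326 15990)) (Nat.shiftLeft (Nat.lor SPK_p327 (Nat.shiftLeft (Nat.lor SPK_p328 (Nat.shiftLeft SPK_p329 15990)) 15990)) 31980)) 79950)) (Nat.shiftLeft (Nat.lor (Nat.lor (Nat.lor SPK_p330 (Nat.shiftLeft SPK_p331 15990)) (Nat.shiftLeft (Nat.lor SPK_p332 (Nat.shiftLeft (Nat.lor SPK_p333 (Nat.shiftLeft SPK_p334 15990)) 15990)) 31980)) (Nat.shiftLeft (Nat.lor (Nat.lor SPK_p335 (Nat.shiftLeft SPK_p336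 15990)) (Nat.shiftLeft (Nat.lor SPK_p337 (Nat.shiftLeft (Nat.lor SPK_p338 (Nat.shiftLeft SPK_p339 15990)) 15990)) 31980)) 79950)) 159900)) (Nat.shiftLeft (Nat.lor (Nat.lor (Nat.lor (Nat.lor SPK_p340 (Nat.shiftLeft SPK_p341 15990)) (Nat.shiftLeft (Nat.lor SPK_p342 (Nat.shiftLeft (Nat.lor SPK_p343 (Nat.shiftLeft SPK_p344 15990)) 15990)) 31980)) (Nat.shiftLeft (Nat.lor (Nat.lor SPK_p345 (Nat.shiftLeft SPK_p346 15990)) (Nat.shiftLeft (Nat.lor SPK_p347 (Nat.shiftLeft (Nat.lor SPK_p348 (Nat.shiftLeft SPK_p349 15990)) 15990)) 31980)) 79950)) (Nat.shiftLeft (Nat.lor (Nat.lor (Nat.lor SPK_p350 (Nat.shiftLeft SPK_p351 15990)) (Nat.shiftLeft (Nat.lor SPK_p352 (Nat.shiftLeft (Nat.lor SPK_p353 (Nat.shiftLeft SPK_p354 15990)) 15990)) 31980)) (Nat.shiftLeft (Nat.lor (Nat.lor SPK_p355 (Nat.shiftLeft SPK_p356 15990))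 (Nat.shiftLeft (Nat.lor SPK_p357 (Nat.shiftLeft (Nat.lor SPK_p358 (Nat.shiftLeft SPK_p359 15990)) 15990)) 31980)) 79950)) 159900)) 319800)) (Nat.shiftLeft (Nat.lor (Nat.lor (Nat.lor (Nat.lor (Nat.lor SPK_p360 (Nat.shiftLeft SPK_p361 15990)) (Nat.shiftLeft (Nat.lor SPK_p362 (Nat.shiftLeft (Nat.lor SPK_p363 (Nat.shiftLeft SPK_p364 15990)) 15990)) 31980)) (Nat.shiftLeft (Nat.lor (Nat.lor SPK_p365 (Nat.shiftLeft SPK_p366 15990)) (Nat.shiftLeft (Nat.lor SPK_p367 (Nat.shiftLeft (Nat.lor SPK_p368 (Nat.shiftLeft SPK_p369 15990)) 15990)) 31980)) 79950)) (Nat.shiftLeft (Nat.lor (Nat.lor (Nat.lor SPK_p370 (Nat.shiftLeft SPK_p371 15990)) (Nat.shiftLeft (Nat.lor SPK_p372 (Nat.shiftLeft (Nat.lor SPK_p373 (Nat.shiftLeft SPK_p374 15990)) 15990)) 31980)) (Nat.shiftLeft (Nat.lor (Nat.lor SPK_p375 (Nat.shiftLeft SPK_p376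 15990)) (Nat.shiftLeft (Nat.lor SPK_p377 (Nat.shiftLeft (Nat.lor SPK_p378 (Nat.shiftLeft SPK_p379 15990)) 15990)) 31980)) 79950)) 159900)) (Nat.shiftLeft (Nat.lor (Nat.lor (Nat.lor (Nat.lor SPK_p380 (Nat.shiftLeft SPK_p381 15990)) (Nat.shiftLeft (Nat.lor SPK_p382 (Nat.shiftLeft (Nat.lor SPK_p383 (Nat.shiftLeft SPK_p384 15990)) 15990)) 31980)) (Nat.shiftLeft (Nat.lor (Nat.lor SPK_p385 (Nat.shiftLeft SPK_p386 15990)) (Nat.shiftLeft (Nat.lor SPK_p387 (Nat.shiftLeft (Nat.lor SPK_p388 (Nat.shiftLeft SPK_p389 15990)) 15990)) 31980)) 79950)) (Nat.shiftLeft (Nat.lor (Nat.lor (Nat.lor SPK_p390 (Nat.shiftLeft SPK_p391 15990)) (Nat.shiftLeft (Nat.lor SPK_p392 (Nat.shiftLeft (Nat.lor SPK_p393 (Nat.shiftLeft SPK_p394 15990)) 15990)) 31980)) (Nat.shiftLeft (Nat.lor (Nat.lor SPK_p395 (Nat.shiftLeft SPK_p396 15990))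 (Nat.shiftLeft (Nat.lor SPK_p397 (Nat.shiftLeft (Nat.lor SPK_p398 (Nat.shiftLeft SPK_p399 15990)) 15990)) 31980)) 79950)) 159900)) 319800)) 639600)) (Nat.shiftLeft (Nat.lor (Nat.lor (Nat.lor (Nat.lor (Nat.lor (Nat.lor SPK_p400 (Nat.shiftLeft SPK_p401 15990)) (Nat.shiftLeft (Nat.lor SPK_p402 (Nat.shiftLeft (Nat.lor SPK_p403 (Nat.shiftLeft SPK_p404 15990)) 15990)) 31980)) (Nat.shiftLeft (Nat.lor (Nat.lor SPK_p405 (Nat.shiftLeft SPK_p406 15990)) (Nat.shiftLeft (Nat.lor SPK_p407 (Nat.shiftLeft (Nat.lor SPK_p408 (Nat.shiftLeft SPK_p409 15990)) 15990)) 31980)) 79950)) (Nat.shiftLeft (Nat.lor (Nat.lor (Nat.lor SPK_p410 (Nat.shiftLeft SPK_p411 15990)) (Nat.shiftLeft (Nat.lor SPK_p412 (Nat.shiftLeft (Nat.lor SPK_p413 (Nat.shiftLeft SPK_p414 15990)) 15990)) 31980)) (Nat.shiftLeft (Nat.lor (Nat.lor SPK_p415 (Nat.shiftLeft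 SPK_p416 15990)) (Nat.shiftLeft (Nat.lor SPK_p417 (Nat.shiftLeft (Nat.lor SPK_p418 (Nat.shiftLeft SPK_p419 15990)) 15990)) 31980)) 79950)) 159900)) (Nat.shiftLeft (Nat.lor (Nat.lor (Nat.lor (Nat.lor SPK_p420 (Nat.shiftLeft SPK_p421 15990)) (Nat.shiftLeft (Nat.lor SPK_p422 (Nat.shiftLeft (Nat.lor SPK_p423 (Nat.shiftLeft SPK_p424 15990)) 15990)) 31980)) (Nat.shiftLeft (Nat.lor (Nat.lor SPK_p425 (Nat.shiftLeft SPK_p426 15990)) (Nat.shiftLeft (Nat.lor SPK_p427 (Nat.shiftLeft (Nat.lor SPK_p428 (Nat.shiftLeft SPK_p429 15990)) 15990)) 31980)) 79950)) (Nat.shiftLeft (Nat.lor (Nat.lor (Nat.lor SPK_p430 (Nat.shiftLeft SPK_p431 15990)) (Nat.shiftLeft (Nat.lor SPK_p432 (Nat.shiftLeft (Nat.lor SPK_p433 (Nat.shiftLeft SPK_p434 15990)) 15990)) 31980)) (Nat.shiftLeft (Nat.lor (Nat.lor SPK_p435 (Nat.shiftLeft SPK_p436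 15990)) (Nat.shiftLeft (Nat.lor SPK_p437 (Nat.shiftLeft (Nat.lor SPK_p438 (Nat.shiftLeft SPK_p439 15990)) 15990)) 31980)) 79950)) 159900)) 319800)) (Nat.shiftLeft (Nat.lor (Nat.lor (Nat.lor (Nat.lor (Nat.lor SPK_p440 (Nat.shiftLeft SPK_p441 15990)) (Nat.shiftLeft (Nat.lor SPK_p442 (Nat.shiftLeft (Nat.lor SPK_p443 (Nat.shiftLeft SPK_p444 15990)) 15990)) 31980)) (Nat.shiftLeft (Nat.lor (Nat.lor SPK_p445 (Nat.shiftLeft SPK_p446 15990)) (Nat.shiftLeft (Nat.lor SPK_p447 (Nat.shiftLeft (Nat.lor SPK_p448 (Nat.shiftLeft SPK_p449 15990)) 15990)) 31980)) 79950)) (Nat.shiftLeft (Nat.lor (Nat.lor (Nat.lor SPK_p450 (Nat.shiftLeft SPK_p451 15990)) (Nat.shiftLeft (Nat.lor SPK_p452 (Nat.shiftLeft (Nat.lor SPK_p453 (Nat.shiftLeft SPK_p454 15990)) 15990)) 31980)) (Nat.shiftLeft (Nat.lor (Nat.lor SPK_p455 (Nat.shiftLeft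 SPK_p456 15990)) (Nat.shiftLeft (Nat.lor SPK_p457 (Nat.shiftLeft (Nat.lor SPK_p458 (Nat.shiftLeft SPK_p459 15990)) 15990)) 31980)) 79950)) 159900)) (Nat.shiftLeft (Nat.lor (Nat.lor (Nat.lor (Nat.lor SPK_p460 (Nat.shiftLeft SPK_p461 15990)) (Nat.shiftLeft (Nat.lor SPK_p462 (Nat.shiftLeft (Nat.lor SPK_p463 (Nat.shiftLeft SPK_p464 15990)) 15990)) 31980)) (Nat.shiftLeft (Nat.lor (Nat.lor SPK_p465 (Nat.shiftLeft SPK_p466 15990)) (Nat.shiftLeft (Nat.lor SPK_p467 (Nat.shiftLeft (Nat.lor SPK_p468 (Nat.shiftLeft SPK_p469 15990)) 15990)) 31980)) 79950)) (Nat.shiftLeft (Nat.lor (Nat.lor (Nat.lor SPK_p470 (Nat.shiftLeft SPK_p471 15990)) (Nat.shiftLeft (Nat.lor SPK_p472 (Nat.shiftLeft (Nat.lor SPK_p473 (Nat.shiftLeft SPK_p474 15990)) 15990)) 31980)) (Nat.shiftLeft (Nat.lor (Nat.lor SPK_p475 (Nat.shiftLeft SPK_p476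 15990)) (Nat.shiftLeft (Nat.lor SPK_p477 (Nat.shiftLeft (Nat.lor SPK_p478 (Nat.shiftLeft SPK_p479 15990)) 15990)) 31980)) 79950)) 159900)) 319800)) 639600)) 1279200)) (Nat.shiftLeft (Nat.lor (Nat.lor (Nat.lor (Nat.lor (Nat.lor (Nat.lor (Nat.lor SPK_p480 (Nat.shiftLeft SPK_p481 15990)) (Nat.shiftLeft (Nat.lor SPK_p482 (Nat.shiftLeft (Nat.lor SPK_p483 (Nat.shiftLeft SPK_p484 15990)) 15990)) 31980)) (Nat.shiftLeft (Nat.lor (Nat.lor SPK_p485 (Nat.shiftLeft SPK_p486 15990)) (Nat.shiftLeft (Nat.lor SPK_p487 (Nat.shiftLeft (Nat.lor SPK_p488 (Nat.shiftLeft SPK_p489 15990)) 15990)) 31980)) 79950)) (Nat.shiftLeft (Nat.lor (Nat.lor (Nat.lor SPK_p490 (Nat.shiftLeft SPK_p491 15990)) (Nat.shiftLeft (Nat.lor SPK_p492 (Nat.shiftLeft (Nat.lor SPK_p493 (Nat.shiftLeft SPK_p494 15990)) 15990)) 31980)) (Nat.shiftLeft (Nat.lor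 (Nat.lor SPK_p495 (Nat.shiftLeft SPK_p496 15990)) (Nat.shiftLeft (Nat.lor SPK_p497 (Nat.shiftLeft (Nat.lor SPK_p498 (Nat.shiftLeft SPK_p499 15990)) 15990)) 31980)) 79950)) 159900)) (Nat.shiftLeft (Nat.lor (Nat.lor (Nat.lor (Nat.lor SPK_p500 (Nat.shiftLeft SPK_p501 15990)) (Nat.shiftLeft (Nat.lor SPK_p502 (Nat.shiftLeft (Nat.lor SPK_p503 (Nat.shiftLeft SPK_p504 15990)) 15990)) 31980)) (Nat.shiftLeft (Nat.lor (Nat.lor SPK_p505 (Nat.shiftLeft SPK_p506 15990)) (Nat.shiftLeft (Nat.lor SPK_p507 (Nat.shiftLeft (Nat.lor SPK_p508 (Nat.shiftLeft SPK_p509 15990)) 15990)) 31980)) 79950)) (Nat.shiftLeft (Nat.lor (Nat.lor (Nat.lor SPK_p510 (Nat.shiftLeft SPK_p511 15990)) (Nat.shiftLeft (Nat.lor SPK_p512 (Nat.shiftLeft (Nat.lor SPK_p513 (Nat.shiftLeft SPK_p514 15990)) 15990)) 31980)) (Nat.shiftLeft (Nat.lor (Nat.lor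 SPK_p515 (Nat.shiftLeft SPK_p516 15990)) (Nat.shiftLeft (Nat.lor SPK_p517 (Nat.shiftLeft (Nat.lor SPK_p518 (Nat.shiftLeft SPK_p519 15990)) 15990)) 31980)) 79950)) 159900)) 319800)) (Nat.shiftLeft (Nat.lor (Nat.lor (Nat.lor (Nat.lor (Nat.lor SPK_p520 (Nat.shiftLeft SPK_p521 15990)) (Nat.shiftLeft (Nat.lor SPK_p522 (Nat.shiftLeft (Nat.lor SPK_p523 (Nat.shiftLeft SPK_p524 15990)) 15990)) 31980)) (Nat.shiftLeft (Nat.lor (Nat.lor SPK_p525 (Nat.shiftLeft SPK_p526 15990)) (Nat.shiftLeft (Nat.lor SPK_p527 (Nat.shiftLeft (Nat.lor SPK_p528 (Nat.shiftLeft SPK_p529 15990)) 15990)) 31980)) 79950)) (Nat.shiftLeft (Nat.lor (Nat.lor (Nat.lor SPK_p530 (Nat.shiftLeft SPK_p531 15990)) (Nat.shiftLeft (Nat.lor SPK_p532 (Nat.shiftLeft (Nat.lor SPK_p533 (Nat.shiftLeft SPK_p534 15990)) 15990)) 31980)) (Nat.shiftLeft (Nat.lor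 (Nat.lor SPK_p535 (Nat.shiftLeft SPK_p536 15990)) (Nat.shiftLeft (Nat.lor SPK_p537 (Nat.shiftLeft (Nat.lor SPK_p538 (Nat.shiftLeft SPK_p539 15990)) 15990)) 31980)) 79950)) 159900)) (Nat.shiftLeft (Nat.lor (Nat.lor (Nat.lor (Nat.lor SPK_p540 (Nat.shiftLeft SPK_p541 15990)) (Nat.shiftLeft (Nat.lor SPK_p542 (Nat.shiftLeft (Nat.lor SPK_p543 (Nat.shiftLeft SPK_p544 15990)) 15990)) 31980)) (Nat.shiftLeft (Nat.lor (Nat.lor SPK_p545 (Nat.shiftLeft SPK_p546 15990)) (Nat.shiftLeft (Nat.lor SPK_p547 (Nat.shiftLeft (Nat.lor SPK_p548 (Nat.shiftLeft SPK_p549 15990)) 15990)) 31980)) 79950)) (Nat.shiftLeft (Nat.lor (Nat.lor (Nat.lor SPK_p550 (Nat.shiftLeft SPK_p551 15990)) (Nat.shiftLeft (Nat.lor SPK_p552 (Nat.shiftLeft (Nat.lor SPK_p553 (Nat.shiftLeft SPK_p554 15990)) 15990)) 31980)) (Nat.shiftLeft (Nat.lor (Nat.lor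 SPK_p555 (Nat.shiftLeft SPK_p556 15990)) (Nat.shiftLeft (Nat.lor SPK_p557 (Nat.shiftLeft (Nat.lor SPK_p558 (Nat.shiftLeft SPK_p559 15990)) 15990)) 31980)) 79950)) 159900)) 319800)) 639600)) (Nat.shiftLeft (Nat.lor (Nat.lor (Nat.lor (Nat.lor (Nat.lor (Nat.lor SPK_p560 (Nat.shiftLeft SPK_p561 15990)) (Nat.shiftLeft (Nat.lor SPK_p562 (Nat.shiftLeft (Nat.lor SPK_p563 (Nat.shiftLeft SPK_p564 15990)) 15990)) 31980)) (Nat.shiftLeft (Nat.lor (Nat.lor SPK_p565 (Nat.shiftLeft SPK_p566 15990)) (Nat.shiftLeft (Nat.lor SPK_p567 (Nat.shiftLeft (Nat.lor SPK_p568 (Nat.shiftLeft SPK_p569 15990)) 15990)) 31980)) 79950)) (Nat.shiftLeft (Nat.lor (Nat.lor (Nat.lor SPK_p570 (Nat.shiftLeft SPK_p571 15990)) (Nat.shiftLeft (Nat.lor SPK_p572 (Nat.shiftLeft (Nat.lor SPK_p573 (Nat.shiftLeft SPK_p574 15990)) 15990)) 31980)) (Nat.shiftLeft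 (Nat.lor (Nat.lor SPK_p575 (Nat.shiftLeft SPK_p576 15990)) (Nat.shiftLeft (Nat.lor SPK_p577 (Nat.shiftLeft (Nat.lor SPK_p578 (Nat.shiftLeft SPK_p579 15990)) 15990)) 31980)) 79950)) 159900)) (Nat.shiftLeft (Nat.lor (Nat.lor (Nat.lor (Nat.lor SPK_p580 (Nat.shiftLeft SPK_p581 15990)) (Nat.shiftLeft (Nat.lor SPK_p582 (Nat.shiftLeft (Nat.lor SPK_p583 (Nat.shiftLeft SPK_p584 15990)) 15990)) 31980)) (Nat.shiftLeft (Nat.lor (Nat.lor SPK_p585 (Nat.shiftLeft SPK_p586 15990)) (Nat.shiftLeft (Nat.lor SPK_p587 (Nat.shiftLeft (Nat.lor SPK_p588 (Nat.shiftLeft SPK_p589 15990)) 15990)) 31980)) 79950)) (Nat.shiftLeft (Nat.lor (Nat.lor (Nat.lor SPK_p590 (Nat.shiftLeft SPK_p591 15990)) (Nat.shiftLeft (Nat.lor SPK_p592 (Nat.shiftLeft (Nat.lor SPK_p593 (Nat.shiftLeft SPK_p594 15990)) 15990)) 31980)) (Nat.shiftLeft (Nat.lor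 (Nat.lor SPK_p595 (Nat.shiftLeft SPK_p596 15990)) (Nat.shiftLeft (Nat.lor SPK_p597 (Nat.shiftLeft (Nat.lor SPK_p598 (Nat.shiftLeft SPK_p599 15990)) 15990)) 31980)) 79950)) 159900)) 319800)) (Nat.shiftLeft (Nat.lor (Nat.lor (Nat.lor (Nat.lor (Nat.lor SPK_p600 (Nat.shiftLeft SPK_p601 15990)) (Nat.shiftLeft (Nat.lor SPK_p602 (Nat.shiftLeft (Nat.lor SPK_p603 (Nat.shiftLeft SPK_p604 15990)) 15990)) 31980)) (Nat.shiftLeft (Nat.lor (Nat.lor SPK_p605 (Nat.shiftLeft SPK_p606 15990)) (Nat.shiftLeft (Nat.lor SPK_p607 (Nat.shiftLeft (Nat.lor SPK_p608 (Nat.shiftLeft SPK_p609 15990)) 15990)) 31980)) 79950)) (Nat.shiftLeft (Nat.lor (Nat.lor (Nat.lor SPK_p610 (Nat.shiftLeft SPK_p611 15990)) (Nat.shiftLeft (Nat.lor SPK_p612 (Nat.shiftLeft (Nat.lor SPK_p613 (Nat.shiftLeft SPK_p614 15990)) 15990)) 31980)) (Nat.shiftLeft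 (Nat.lor (Nat.lor SPK_p615 (Nat.shiftLeft SPK_p616 15990)) (Nat.shiftLeft (Nat.lor SPK_p617 (Nat.shiftLeft (Nat.lor SPK_p618 (Nat.shiftLeft SPK_p619 15990)) 15990)) 31980)) 79950)) 159900)) (Nat.shiftLeft (Nat.lor (Nat.lor (Nat.lor (Nat.lor SPK_p620 (Nat.shiftLeft SPK_p621 15990)) (Nat.shiftLeft (Nat.lor SPK_p622 (Nat.shiftLeft (Nat.lor SPK_p623 (Nat.shiftLeft SPK_p624 15990)) 15990)) 31980)) (Nat.shiftLeft (Nat.lor (Nat.lor SPK_p625 (Nat.shiftLeft SPK_p626 15990)) (Nat.shiftLeft (Nat.lor SPK_p627 (Nat.shiftLeft (Nat.lor SPK_p628 (Nat.shiftLeft SPK_p629 15990)) 15990)) 31980)) 79950)) (Nat.shiftLeft (Nat.lor (Nat.lor (Nat.lor SPK_p630 (Nat.shiftLeft SPK_p631 15990)) (Nat.shiftLeft (Nat.lor SPK_p632 (Nat.shiftLeft (Nat.lor SPK_p633 (Nat.shiftLeft SPK_p634 15990)) 15990)) 31980)) (Nat.shiftLeft (Nat.lor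 (Nat.lor SPK_p635 (Nat.shiftLeft SPK_p636 15990)) (Nat.shiftLeft (Nat.lor SPK_p637 (Nat.shiftLeft (Nat.lor SPK_p638 (Nat.shiftLeft SPK_p639 15990)) 15990)) 31980)) 79950)) 159900)) 319800)) 639600)) 1279200)) 2558400)) 5116800))
noncomputable def SPK_M1 : Nat := Nat.sub (Nat.shiftLeft 1 159744) 1
noncomputable def SPK_M2 : Nat := Nat.sub (Nat.shiftLeft 1 1248) 1
noncomputable def SPK (p : Nat) : Nat :=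
  force (Nat.shiftRight p 12) fun b1 => force (Nat.land (Nat.shiftRight p 5) 127) fun b2 =>
    Nat.land (Nat.shiftRight (Nat.land (Nat.shiftRight (Nat.land (Nat.shiftRight SPK_T (Nat.mul b1 159744)) SPK_M1) (Nat.mul b2 1248)) SPK_M2) (Nat.mul (Nat.land p 31) 39)) 549755813887

noncomputable def SCN_T : Nat := SCN_p0
noncomputable def SCN_M1 : Nat := Nat.sub (Nat.shiftLeft 1 69632) 1
noncomputable def SCN_M2 : Nat := Nat.sub (Nat.shiftLeft 1 544) 1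
noncomputable def SCN (p : Nat) : Nat :=
  force (Nat.shiftRight p 12) fun b1 => force (Nat.land (Nat.shiftRight p 5) 127) fun b2 =>
    Nat.land (Nat.shiftRight (Nat.land (Nat.shiftRight (Nat.land (Nat.shiftRight SCN_T (Nat.mul b1 69632)) SCN_M1) (Nat.mul b2 544)) SCN_M2) (Nat.mul (Nat.land p 31) 17)) 131071

noncomputable def WPT_T : Nat := (Nat.lor (Nat.lor WPT_p0 (Nat.shiftLeft WPT_p1 15990)) (Nat.shiftLeft (Nat.lor WPT_p2 (Nat.shiftLeft (Nat.lor WPT_p3 (Nat.shiftLeft WPT_p4 15990)) 15990)) 31980))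
noncomputable def WPT_M1 : Nat := Nat.sub (Nat.shiftLeft 1 53248) 1
noncomputable def WPT_M2 : Nat := Nat.sub (Nat.shiftLeft 1 416) 1
noncomputable def WPT (p : Nat) : Nat :=
  force (Nat.shiftRight p 12) fun b1 => force (Nat.land (Nat.shiftRight p 5) 127) fun b2 =>
    Nat.land (Nat.shiftRight (Nat.land (Nat.shiftRight (Nat.land (Nat.shiftRight WPT_T (Nat.mul b1 53248)) WPT_M1) (Nat.mul b2 416)) WPT_M2) (Nat.mul (Nat.land p 31) 13)) 8191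

noncomputable def WPI_T : Nat := (Nat.lor (Nat.lor (Nat.lor WPI_p0 (Nat.shiftLeft WPI_p1 15996)) (Nat.shiftLeft (Nat.lor WPI_p2 (Nat.shiftLeft (Nat.lor WPI_p3 (Nat.shiftLeft WPI_p4 15996)) 15996)) 31992)) (Nat.shiftLeft (Nat.lor (Nat.lor WPI_p5 (Nat.shiftLeft (Nat.lor WPI_p6 (Nat.shiftLeft WPI_p7 15996)) 15996)) (Nat.shiftLeft (Nat.lor WPI_p8 (Nat.shiftLeft (Nat.lor WPI_p9 (Nat.shiftLeft WPI_p10 15996)) 15996)) 47988)) 79980))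
noncomputable def WPI_M1 : Nat := Nat.sub (Nat.shiftLeft 1 49152) 1
noncomputable def WPI_M2 : Nat := Nat.sub (Nat.shiftLeft 1 384) 1
noncomputable def WPI (p : Nat) : Nat :=
  force (Nat.shiftRight p 12) fun b1 => force (Nat.land (Nat.shiftRight p 5) 127) fun b2 =>
    Nat.land (Nat.shiftRight (Nat.land (Nat.shiftRight (Nat.land (Nat.shiftRight WPI_T (Nat.mul b1 49152)) WPI_M1) (Nat.mul b2 384)) WPI_M2) (Nat.mul (Nat.land p 31) 12)) 4095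

def sqL : List Nat := [0, 0, 0, 0, 2, 6, 12, 0, 0, 0, 0, 128, 0, 128, 0, 0, 2, 30216]
def wlL : List Nat := [0, 1, 1, 1, 1, 1, 1, 2, 2, 2, 2, 2, 2, 2, 2, 2, 2, 2]
def wsL : List Nat := [1, 1, 2, 4, 8, 16, 32, 1, 2, 4, 8, 16, 32, 64, 128, 256, 512, 1024]
def wbL : List Nat := [562, 556, 0]
def wmL : List Nat := [2, 64, 2048]
noncomputable def SS : PcD where
  off := 50
  a := 18
  sq := fun k => sqL.getD k 0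
  cn := SCN
  wl := fun k => wlL.getD k 0
  ws := fun k => wsL.getD k 0
  wb := fun k => wbL.getD k 0
  wpt := fun l i => WPT (Nat.add (Nat.mul l 2048) i)
  wpi := fun l q => WPI (Nat.add (Nat.mul l 4600) q)
  wm := fun k => wmL.getD k 0
  lv := 3
  pk := SPK

noncomputable def OPL0_T : Nat := (Nat.lor (Nat.lor (Nat.lor (Nat.lor (Nat.lor (Nat.lor OPL0_p0 (Nat.shiftLeft OPL0_p1 15998)) (Nat.shiftLeft (Nat.lor OPL0_p2 (Nat.shiftLeft OPL0_p3 15998)) 31996)) (Nat.shiftLeft (Nat.lor (Nat.lor OPL0_p4 (Nat.shiftLeft OPL0_p5 15998)) (Nat.shiftLeft (Nat.lor OPL0_p6 (Nat.shiftLeft OPL0_p7 15998)) 31996)) 63992)) (Nat.shiftLeft (Nat.lor (Nat.lor (Nat.lor OPL0_p8 (Nat.shiftLeft OPL0_p9 15998)) (Nat.shiftLeft (Nat.lor OPL0_p10 (Nat.shiftLeft OPL0_p11 15998)) 31996)) (Nat.shiftLeft (Nat.lor (Nat.lor OPL0_p12 (Nat.shiftLeft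 OPL0_p13 15998)) (Nat.shiftLeft (Nat.lor OPL0_p14 (Nat.shiftLeft (Nat.lor OPL0_p15 (Nat.shiftLeft OPL0_p16 15998)) 15998)) 31996)) 63992)) 127984)) (Nat.shiftLeft (Nat.lor (Nat.lor (Nat.lor (Nat.lor OPL0_p17 (Nat.shiftLeft OPL0_p18 15998)) (Nat.shiftLeft (Nat.lor OPL0_p19 (Nat.shiftLeft OPL0_p20 15998)) 31996)) (Nat.shiftLeft (Nat.lor (Nat.lor OPL0_p21 (Nat.shiftLeft OPL0_p22 15998)) (Nat.shiftLeft (Nat.lor OPL0_p23 (Nat.shiftLeft OPL0_p24 15998)) 31996)) 63992)) (Nat.shiftLeft (Nat.lor (Nat.lor (Nat.lor OPL0_p25 (Nat.shiftLeft OPL0_p26 15998)) (Nat.shiftLeft (Nat.lor OPL0_p27 (Nat.shiftLeft OPL0_p28 15998)) 31996)) (Nat.shiftLeft (Nat.lor (Nat.lor OPL0_p29 (Nat.shiftLeft OPL0_p30 15998)) (Nat.shiftLeft (Nat.lor OPL0_p31 (Nat.shiftLeft (Nat.lor OPL0_p32 (Nat.shiftLeft OPL0_p33 15998)) 15998)) 31996))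 63992)) 127984)) 271966)) (Nat.shiftLeft (Nat.lor (Nat.lor (Nat.lor (Nat.lor (Nat.lor OPL0_p34 (Nat.shiftLeft OPL0_p35 15998)) (Nat.shiftLeft (Nat.lor OPL0_p36 (Nat.shiftLeft OPL0_p37 15998)) 31996)) (Nat.shiftLeft (Nat.lor (Nat.lor OPL0_p38 (Nat.shiftLeft OPL0_p39 15998)) (Nat.shiftLeft (Nat.lor OPL0_p40 (Nat.shiftLeft OPL0_p41 15998)) 31996)) 63992)) (Nat.shiftLeft (Nat.lor (Nat.lor (Nat.lor OPL0_p42 (Nat.shiftLeft OPL0_p43 15998)) (Nat.shiftLeft (Nat.lor OPL0_p44 (Nat.shiftLeft OPL0_p45 15998)) 31996)) (Nat.shiftLeft (Nat.lor (Nat.lor OPL0_p46 (Nat.shiftLeft OPL0_p47 15998)) (Nat.shiftLeft (Nat.lor OPL0_p48 (Nat.shiftLeft (Nat.lor OPL0_p49 (Nat.shiftLeft OPL0_p50 15998)) 15998)) 31996)) 63992)) 127984)) (Nat.shiftLeft (Nat.lor (Nat.lor (Nat.lor (Nat.lor OPL0_p51 (Nat.shiftLeft OPL0_p52 15998)) (Nat.shiftLeft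 (Nat.lor OPL0_p53 (Nat.shiftLeft OPL0_p54 15998)) 31996)) (Nat.shiftLeft (Nat.lor (Nat.lor OPL0_p55 (Nat.shiftLeft OPL0_p56 15998)) (Nat.shiftLeft (Nat.lor OPL0_p57 (Nat.shiftLeft OPL0_p58 15998)) 31996)) 63992)) (Nat.shiftLeft (Nat.lor (Nat.lor (Nat.lor OPL0_p59 (Nat.shiftLeft OPL0_p60 15998)) (Nat.shiftLeft (Nat.lor OPL0_p61 (Nat.shiftLeft OPL0_p62 15998)) 31996)) (Nat.shiftLeft (Nat.lor (Nat.lor OPL0_p63 (Nat.shiftLeft OPL0_p64 15998)) (Nat.shiftLeft (Nat.lor OPL0_p65 (Nat.shiftLeft (Nat.lor OPL0_p66 (Nat.shiftLeft OPL0_p67 15998)) 15998)) 31996)) 63992)) 127984)) 271966)) 543932))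
noncomputable def OPL0_M1 : Nat := Nat.sub (Nat.shiftLeft 1 77824) 1
noncomputable def OPL0_M2 : Nat := Nat.sub (Nat.shiftLeft 1 608) 1
noncomputable def OPL0 (p : Nat) : Nat :=
  force (Nat.shiftRight p 12) fun b1 => force (Nat.land (Nat.shiftRight p 5) 127) fun b2 =>
    Nat.land (Nat.shiftRight (Nat.land (Nat.shiftRight (Nat.land (Nat.shiftRight OPL0_T (Nat.mul b1 77824)) OPL0_M1) (Nat.mul b2 608)) OPL0_M2) (Nat.mul (Nat.land p 31) 19)) 524287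

noncomputable def OO0 : Frs := ⟨69, 3691, OPL0, 8, 42, 6, 56927, [2444, 2098, 2531, 362, 240]⟩

noncomputable def OPL1_T : Nat := (Nat.lor (Nat.lor (Nat.lor (Nat.lor (Nat.lor (Nat.lor OPL1_p0 (Nat.shiftLeft OPL1_p1 15998)) (Nat.shiftLeft (Nat.lor OPL1_p2 (Nat.shiftLeft OPL1_p3 15998)) 31996)) (Nat.shiftLeft (Nat.lor (Nat.lor OPL1_p4 (Nat.shiftLeft OPL1_p5 15998)) (Nat.shiftLeft (Nat.lor OPL1_p6 (Nat.shiftLeft OPL1_p7 15998)) 31996)) 63992)) (Nat.shiftLeft (Nat.lor (Nat.lor (Nat.lor OPL1_p8 (Nat.shiftLeft OPL1_p9 15998)) (Nat.shiftLeft (Nat.lor OPL1_p10 (Nat.shiftLeft OPL1_p11 15998)) 31996)) (Nat.shiftLeft (Nat.lor (Nat.lor OPL1_p12 (Nat.shiftLeft OPL1_p13 15998)) (Nat.shiftLeft (Nat.lor OPL1_p14 (Nat.shiftLeft (Nat.lor OPL1_p15 (Nat.shiftLeft OPL1_p16 15998)) 15998)) 31996)) 63992)) 127984)) (Nat.shiftLeft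 (Nat.lor (Nat.lor (Nat.lor (Nat.lor OPL1_p17 (Nat.shiftLeft OPL1_p18 15998)) (Nat.shiftLeft (Nat.lor OPL1_p19 (Nat.shiftLeft OPL1_p20 15998)) 31996)) (Nat.shiftLeft (Nat.lor (Nat.lor OPL1_p21 (Nat.shiftLeft OPL1_p22 15998)) (Nat.shiftLeft (Nat.lor OPL1_p23 (Nat.shiftLeft OPL1_p24 15998)) 31996)) 63992)) (Nat.shiftLeft (Nat.lor (Nat.lor (Nat.lor OPL1_p25 (Nat.shiftLeft OPL1_p26 15998)) (Nat.shiftLeft (Nat.lor OPL1_p27 (Nat.shiftLeft OPL1_p28 15998)) 31996)) (Nat.shiftLeft (Nat.lor (Nat.lor OPL1_p29 (Nat.shiftLeft OPL1_p30 15998)) (Nat.shiftLeft (Nat.lor OPL1_p31 (Nat.shiftLeft (Nat.lor OPL1_p32 (Nat.shiftLeft OPL1_p33 15998)) 15998)) 31996)) 63992)) 127984)) 271966)) (Nat.shiftLeft (Nat.lor (Nat.lor (Nat.lor (Nat.lor (Nat.lor OPL1_p34 (Nat.shiftLeft OPL1_p35 15998)) (Nat.shiftLeft (Nat.lor OPL1_p36 (Nat.shiftLeft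 OPL1_p37 15998)) 31996)) (Nat.shiftLeft (Nat.lor (Nat.lor OPL1_p38 (Nat.shiftLeft OPL1_p39 15998)) (Nat.shiftLeft (Nat.lor OPL1_p40 (Nat.shiftLeft OPL1_p41 15998)) 31996)) 63992)) (Nat.shiftLeft (Nat.lor (Nat.lor (Nat.lor OPL1_p42 (Nat.shiftLeft OPL1_p43 15998)) (Nat.shiftLeft (Nat.lor OPL1_p44 (Nat.shiftLeft OPL1_p45 15998)) 31996)) (Nat.shiftLeft (Nat.lor (Nat.lor OPL1_p46 (Nat.shiftLeft OPL1_p47 15998)) (Nat.shiftLeft (Nat.lor OPL1_p48 (Nat.shiftLeft (Nat.lor OPL1_p49 (Nat.shiftLeft OPL1_p50 15998)) 15998)) 31996)) 63992)) 127984)) (Nat.shiftLeft (Nat.lor (Nat.lor (Nat.lor (Nat.lor OPL1_p51 (Nat.shiftLeft OPL1_p52 15998)) (Nat.shiftLeft (Nat.lor OPL1_p53 (Nat.shiftLeft OPL1_p54 15998)) 31996)) (Nat.shiftLeft (Nat.lor (Nat.lor OPL1_p55 (Nat.shiftLeft OPL1_p56 15998)) (Nat.shiftLeft (Nat.lor OPL1_p57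 (Nat.shiftLeft OPL1_p58 15998)) 31996)) 63992)) (Nat.shiftLeft (Nat.lor (Nat.lor (Nat.lor OPL1_p59 (Nat.shiftLeft OPL1_p60 15998)) (Nat.shiftLeft (Nat.lor OPL1_p61 (Nat.shiftLeft OPL1_p62 15998)) 31996)) (Nat.shiftLeft (Nat.lor (Nat.lor OPL1_p63 (Nat.shiftLeft OPL1_p64 15998)) (Nat.shiftLeft (Nat.lor OPL1_p65 (Nat.shiftLeft (Nat.lor OPL1_p66 (Nat.shiftLeft OPL1_p67 15998)) 15998)) 31996)) 63992)) 127984)) 271966)) 543932))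
noncomputable def OPL1_M1 : Nat := Nat.sub (Nat.shiftLeft 1 77824) 1
noncomputable def OPL1_M2 : Nat := Nat.sub (Nat.shiftLeft 1 608) 1
noncomputable def OPL1 (p : Nat) : Nat :=
  force (Nat.shiftRight p 12) fun b1 => force (Nat.land (Nat.shiftRight p 5) 127) fun b2 =>
    Nat.land (Nat.shiftRight (Nat.land (Nat.shiftRight (Nat.land (Nat.shiftRight OPL1_T (Nat.mul b1 77824)) OPL1_M1) (Nat.mul b2 608)) OPL1_M2) (Nat.mul (Nat.land p 31) 19)) 524287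

noncomputable def OO1 : Frs := ⟨70, 5277, OPL1, 8, 42, 6, 56931, [3377, 2798, 2420, 3107]⟩

noncomputable def OPL2_T : Nat := (Nat.lor (Nat.lor (Nat.lor (Nat.lor (Nat.lor (Nat.lor OPL2_p0 (Nat.shiftLeft OPL2_p1 15998)) (Nat.shiftLeft (Nat.lor OPL2_p2 (Nat.shiftLeft OPL2_p3 15998)) 31996)) (Nat.shiftLeft (Nat.lor (Nat.lor OPL2_p4 (Nat.shiftLeft OPL2_p5 15998)) (Nat.shiftLeft (Nat.lor OPL2_p6 (Nat.shiftLeft OPL2_p7 15998)) 31996)) 63992)) (Nat.shiftLeft (Nat.lor (Nat.lor (Nat.lor OPL2_p8 (Nat.shiftLeft OPL2_p9 15998)) (Nat.shiftLeft (Nat.lor OPL2_p10 (Nat.shiftLeft OPL2_p11 15998)) 31996)) (Nat.shiftLeft (Nat.lor (Nat.lor OPL2_p12 (Nat.shiftLeft OPL2_p13 15998)) (Nat.shiftLeft (Nat.lor OPL2_p14 (Nat.shiftLeft (Nat.lor OPL2_p15 (Nat.shiftLeft OPL2_p16 15998)) 15998)) 31996)) 63992)) 127984)) (Nat.shiftLeft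 (Nat.lor (Nat.lor (Nat.lor (Nat.lor OPL2_p17 (Nat.shiftLeft OPL2_p18 15998)) (Nat.shiftLeft (Nat.lor OPL2_p19 (Nat.shiftLeft OPL2_p20 15998)) 31996)) (Nat.shiftLeft (Nat.lor (Nat.lor OPL2_p21 (Nat.shiftLeft OPL2_p22 15998)) (Nat.shiftLeft (Nat.lor OPL2_p23 (Nat.shiftLeft OPL2_p24 15998)) 31996)) 63992)) (Nat.shiftLeft (Nat.lor (Nat.lor (Nat.lor OPL2_p25 (Nat.shiftLeft OPL2_p26 15998)) (Nat.shiftLeft (Nat.lor OPL2_p27 (Nat.shiftLeft OPL2_p28 15998)) 31996)) (Nat.shiftLeft (Nat.lor (Nat.lor OPL2_p29 (Nat.shiftLeft OPL2_p30 15998)) (Nat.shiftLeft (Nat.lor OPL2_p31 (Nat.shiftLeft (Nat.lor OPL2_p32 (Nat.shiftLeft OPL2_p33 15998)) 15998)) 31996)) 63992)) 127984)) 271966)) (Nat.shiftLeft (Nat.lor (Nat.lor (Nat.lor (Nat.lor (Nat.lor OPL2_p34 (Nat.shiftLeft OPL2_p35 15998)) (Nat.shiftLeft (Nat.lor OPL2_p36 (Nat.shiftLeft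 OPL2_p37 15998)) 31996)) (Nat.shiftLeft (Nat.lor (Nat.lor OPL2_p38 (Nat.shiftLeft OPL2_p39 15998)) (Nat.shiftLeft (Nat.lor OPL2_p40 (Nat.shiftLeft OPL2_p41 15998)) 31996)) 63992)) (Nat.shiftLeft (Nat.lor (Nat.lor (Nat.lor OPL2_p42 (Nat.shiftLeft OPL2_p43 15998)) (Nat.shiftLeft (Nat.lor OPL2_p44 (Nat.shiftLeft OPL2_p45 15998)) 31996)) (Nat.shiftLeft (Nat.lor (Nat.lor OPL2_p46 (Nat.shiftLeft OPL2_p47 15998)) (Nat.shiftLeft (Nat.lor OPL2_p48 (Nat.shiftLeft (Nat.lor OPL2_p49 (Nat.shiftLeft OPL2_p50 15998)) 15998)) 31996)) 63992)) 127984)) (Nat.shiftLeft (Nat.lor (Nat.lor (Nat.lor (Nat.lor OPL2_p51 (Nat.shiftLeft OPL2_p52 15998)) (Nat.shiftLeft (Nat.lor OPL2_p53 (Nat.shiftLeft OPL2_p54 15998)) 31996)) (Nat.shiftLeft (Nat.lor (Nat.lor OPL2_p55 (Nat.shiftLeft OPL2_p56 15998)) (Nat.shiftLeft (Nat.lor OPL2_p57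 (Nat.shiftLeft OPL2_p58 15998)) 31996)) 63992)) (Nat.shiftLeft (Nat.lor (Nat.lor (Nat.lor OPL2_p59 (Nat.shiftLeft OPL2_p60 15998)) (Nat.shiftLeft (Nat.lor OPL2_p61 (Nat.shiftLeft OPL2_p62 15998)) 31996)) (Nat.shiftLeft (Nat.lor (Nat.lor OPL2_p63 (Nat.shiftLeft OPL2_p64 15998)) (Nat.shiftLeft (Nat.lor OPL2_p65 (Nat.shiftLeft (Nat.lor OPL2_p66 (Nat.shiftLeft OPL2_p67 15998)) 15998)) 31996)) 63992)) 127984)) 271966)) 543932))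
noncomputable def OPL2_M1 : Nat := Nat.sub (Nat.shiftLeft 1 77824) 1
noncomputable def OPL2_M2 : Nat := Nat.sub (Nat.shiftLeft 1 608) 1
noncomputable def OPL2 (p : Nat) : Nat :=
  force (Nat.shiftRight p 12) fun b1 => force (Nat.land (Nat.shiftRight p 5) 127) fun b2 =>
    Nat.land (Nat.shiftRight (Nat.land (Nat.shiftRight (Nat.land (Nat.shiftRight OPL2_T (Nat.mul b1 77824)) OPL2_M1) (Nat.mul b2 608)) OPL2_M2) (Nat.mul (Nat.land p 31) 19)) 524287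

noncomputable def OO2 : Frs := ⟨71, 45854, OPL2, 8, 42, 6, 56930, [3044, 1289, 4014, 3404]⟩

noncomputable def Os : List Frs := [OO0, OO1, OO2]

def wdsL : List (List Nat) := [
  [],
  [6, 6, 7, 6, 8, 8, 7, 4, 5, 4, 5, 4, 5, 4, 5, 2, 3, 2, 2, 2, 2, 3, 2, 3, 3],
  [9, 6, 7, 7, 6, 8, 6, 5, 5, 5, 4, 5, 4, 5, 5, 5, 4, 5, 2, 2, 3, 2, 2, 2, 3, 3, 2, 3],
  [9, 8, 4, 5, 5, 4, 5, 4, 5, 4, 4, 5, 4, 2, 2, 2, 3, 2, 3, 2, 3, 2],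
  [8, 6, 8, 6, 7, 6, 7, 6, 5, 5, 4, 4, 5, 4, 5, 4, 2, 2, 2, 2, 2, 3, 2, 3, 3, 2, 2, 0, 0, 1, 0, 0, 1, 0, 0, 0, 0, 1, 0, 0, 1, 0, 0, 0, 1, 0, 0],
  [7, 6, 7, 6, 6, 8, 6, 5, 4, 4, 4, 5, 5, 5, 4, 5, 5, 4, 5, 3, 2, 2, 3, 2, 3, 3, 2, 3, 2, 3, 3, 1, 0, 0, 0, 0, 0, 0, 0, 1, 0, 0, 1, 0, 1, 0, 0],
  [6, 7, 8, 6, 7, 6, 8, 4, 5, 4, 5, 4, 4, 4, 5, 5, 5, 5, 2, 2, 3, 3, 2, 3, 2, 2, 1, 0, 0, 0, 0, 0, 0, 0, 1, 0, 0, 0, 0, 1, 0, 1, 0, 0],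
  [],
  [6, 7, 7, 8, 7, 5, 4, 4, 5, 5, 5, 4, 5, 3, 3, 2, 2, 3, 2, 3, 3, 2, 2, 1],
  [6, 7, 8, 4, 5, 5, 5, 5, 4, 5, 5, 4, 4, 5, 3, 3, 2, 2, 3, 2, 3, 3, 2, 3, 2, 2, 2, 0, 0, 0, 0, 0, 0, 1, 0, 1, 0, 0, 0, 0, 1, 0, 0],
  [7, 7, 7, 8, 7, 4, 4, 5, 5, 2, 2, 2, 2, 2, 3, 2, 2, 3, 2, 0, 1, 0, 0, 0, 0, 1, 0, 0, 1, 0, 1, 0, 0, 0, 1, 0, 1],
  [9, 6, 8, 8, 7, 8, 6, 5, 4, 5, 5, 4, 4, 5, 5, 5, 4, 2, 2, 2, 3, 2, 2, 3, 3, 3, 2, 3, 2, 0, 0, 0, 1, 0, 0, 0, 0],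
  [9, 6, 8, 6, 7, 6, 6, 8, 5, 4, 4, 4, 5, 5, 4, 4, 5, 5, 5, 2, 3, 3, 2, 3, 3, 2, 2, 3, 2, 3, 2, 3, 2, 0, 1, 0, 0, 0, 0, 0, 0, 0, 0, 0, 0, 0, 0, 0],
  [6, 6, 8, 8, 6, 8, 7, 7, 5, 5, 5, 4, 5, 4, 4, 5, 4, 2, 2, 2, 2, 2, 3, 3, 2, 2, 3, 2, 2, 0, 0, 0, 0, 1, 0, 0, 0, 0, 1, 0, 0, 0, 0, 0, 1, 0, 0],
  [9, 7, 8, 6, 6, 4, 4, 4, 5, 5, 5, 5, 4, 5, 5, 5, 2, 3, 2, 3, 3, 2, 3, 2, 1, 0, 0, 1, 0, 0, 0, 0, 1, 0, 0, 0, 1, 0, 0, 0, 0],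
  [9, 8, 7, 7, 6, 8, 7, 5, 4, 5, 5, 4, 4, 4, 4, 3, 3, 3, 2, 3, 3, 3, 2, 2, 2, 3, 0, 0, 1, 0, 0, 1, 0, 1, 0, 0, 0, 0, 1, 0, 0, 1, 0, 1, 0],
  [9, 6, 7, 6, 8, 4, 4, 5, 4, 4, 5, 4, 5, 4, 5, 4, 5, 2, 2, 2, 2, 2, 3, 2, 2, 3, 2, 3, 3, 3, 0, 0, 1, 0, 0, 0, 1, 0, 0, 1, 0, 0, 0, 0, 0, 0, 0, 0, 0, 1, 0],
  [6, 6, 7, 6, 6, 7, 5, 5, 4, 4, 5, 5, 5, 4, 5, 3, 2, 3, 2, 3, 2, 3, 3, 0, 0, 0, 1, 0, 0, 0, 0, 0, 0, 1, 0, 0, 0, 0, 1, 0, 0],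
  [6, 8, 6, 6, 8, 7, 5, 4, 4, 5, 5, 4, 5, 4, 5, 4, 2, 2, 3, 2, 2, 2, 2, 3, 2, 3, 3, 2, 2, 0, 0, 0, 1, 0, 0, 0, 0, 0, 0, 0, 1, 0, 1, 0, 0, 0, 1],
  [9, 6, 6, 7, 8, 6, 8, 4, 4, 4, 5, 4, 4, 4, 4, 3, 2, 2, 2, 3, 3, 3, 2, 2, 2, 0, 0, 1, 0, 1, 0, 0, 0, 0, 0, 0, 0, 1, 0, 1],
  [],
  [9, 7, 8, 6, 6, 7, 6, 5, 5, 4, 5, 5, 4, 4, 2, 2, 3, 3, 2, 2, 2, 2, 2, 0, 0, 1, 0, 0, 0, 1, 0, 0, 0, 0, 0, 0, 0, 1],
  [9, 6, 7, 8, 7, 6, 8, 4, 4, 5, 4, 4, 5, 5, 5, 4, 5, 4, 4, 2, 3, 3, 2, 3, 2, 2, 2, 2, 3, 3, 0, 1, 0, 0, 1, 0, 0, 0, 1, 0, 0, 0, 0],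
  [9, 7, 8, 8, 6, 8, 5, 5, 4, 4, 4, 5, 4, 5, 5, 3, 3, 3, 2, 3, 3, 2, 3, 3, 2, 2, 2, 0, 1, 0, 0, 1, 0, 0, 0, 0, 0, 1, 0, 0, 0, 1, 0, 0, 1, 0],
  [9, 6, 8, 6, 6, 6, 8, 4, 5, 4, 5, 5, 2, 3, 2, 2, 3, 2, 3, 2, 2, 1, 0, 1, 0, 0, 1, 0, 1, 0, 0, 0, 0, 0, 0],
  [9, 6, 8, 7, 8, 6, 6, 6, 4, 4, 4, 4, 5, 4, 5, 5, 4, 5, 5, 5, 2, 2, 3, 3, 3, 2, 2, 3, 2, 2, 3, 0, 0, 1, 0, 1, 0, 0, 0, 0, 1, 0, 0, 0, 0, 0, 1],
  [7, 6, 7, 7, 8, 7, 8, 4, 4, 5, 4, 4, 5, 4, 5, 5, 5, 4, 4, 4, 3, 3, 2, 2, 3, 3, 2, 3, 2, 3, 2, 0, 0, 0, 1, 0, 0, 0, 1, 0, 1, 0, 0, 0, 1, 0, 1],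
  [6, 8, 6, 6, 8, 5, 4, 5, 4, 5, 4, 4, 4, 2, 2, 2, 2, 2, 3, 3, 2, 3, 3, 2, 3, 3, 0, 0, 0, 1, 0, 0, 0, 0, 1, 0, 1, 0, 0, 1, 0],
  [8, 7, 8, 6, 8, 6, 4, 5, 5, 5, 4, 5, 4, 5, 4, 5, 4, 3, 2, 3, 3, 3, 2, 1, 0, 1, 0, 0, 1, 0, 0, 0, 0, 0],
  [9, 6, 7, 6, 4, 4, 5, 5, 4, 4, 4, 4, 5, 5, 3, 2, 2, 2, 2, 2, 3, 2, 2, 3, 0, 0, 0, 1, 0, 0, 1, 0, 0, 0, 1, 0, 0, 1],
  [9, 6, 7, 6, 7, 8, 6, 8, 5, 4, 5, 4, 5, 4, 4, 4, 4, 5, 4, 2, 2, 2, 2, 3, 3, 3, 2, 3, 2, 2, 0, 0, 1, 0, 0, 0, 0, 1, 0, 0, 0, 0, 1, 0, 0, 1, 0],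
  [9, 5, 4, 4, 4, 4, 5, 4, 4, 5, 3, 3, 3, 2, 2, 2, 2, 2, 2, 1, 0, 0, 0, 1, 0, 0, 1, 0, 1, 0, 0, 1],
  [9, 8, 6, 8, 6, 8, 7, 8, 4, 5, 5, 5, 4, 5, 4, 5, 4, 5, 4, 3, 2, 2, 3, 3, 2, 2, 3, 2, 2, 2, 0, 0, 1, 0, 0, 0, 0, 1, 0, 0, 1, 0, 0, 1, 0, 1],
  [6, 6, 7, 7, 8, 4, 4, 5, 4, 4, 5, 4, 5, 4, 4, 4, 3, 3, 2, 3, 2, 3, 2, 2, 3, 3, 2, 0, 1, 0, 1, 0, 0, 0, 0, 0, 1, 0, 1, 0, 1],
  [9, 6, 8, 8, 6, 6, 8, 7, 5, 4, 4, 4, 5, 5, 4, 3, 2, 3, 2, 3, 3, 3, 2, 3, 2, 2, 0, 0, 0, 0, 1, 0, 0, 0, 0, 0, 0, 0, 1, 0, 1, 0, 0, 0, 0, 1],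
  [7, 7, 7, 8, 6, 6, 5, 4, 4, 5, 4, 5, 5, 5, 3, 2, 2, 3, 3, 3, 2, 3, 3, 2, 2, 1, 0, 1, 0, 0, 0, 0, 1, 0, 0, 1, 0],
  [7, 8, 7, 6, 7, 8, 7, 5, 5, 4, 5, 4, 4, 5, 4, 2, 2, 2, 3, 3, 2, 2, 3, 3, 0, 0, 0, 0, 0, 0, 1, 0, 0, 0, 1, 0, 1, 0, 1],
  [9, 8, 6, 8, 6, 8, 4, 4, 5, 5, 4, 4, 5, 4, 4, 3, 2, 3, 3, 2, 2, 3, 3, 2, 2, 1, 0, 0, 0, 1, 0, 0, 0, 1, 0, 0, 0, 1, 0, 1, 0, 0, 0],
  [9, 7, 6, 8, 6, 7, 6, 7, 5, 5, 5, 4, 4, 5, 2, 2, 3, 2, 2, 3, 2, 3, 2, 3, 2, 2, 1, 0, 1, 0, 0, 1, 0, 0, 0, 1, 0, 0, 0, 0, 1],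
  [6, 8, 6, 6, 6, 8, 4, 4, 5, 5, 4, 5, 4, 4, 4, 5, 4, 2, 3, 2, 2, 2, 2, 2, 2, 3, 3, 2, 2, 0, 0, 1, 0, 0, 0, 0, 0, 0, 0, 1, 0, 0, 0, 0, 0, 1, 0, 0],
  [9, 6, 7, 8, 6, 6, 6, 8, 4, 5, 4, 5, 4, 5, 4, 4, 4, 4, 3, 2, 2, 2, 2, 2, 3, 2, 0, 0, 0, 1, 0, 0, 0, 0, 0, 0, 1, 0, 1, 0, 0, 1],
  [9, 6, 8, 6, 6, 4, 4, 4, 5, 4, 4, 5, 5, 5, 2, 2, 3, 3, 2, 3, 2, 2, 3, 3, 3, 0, 0, 0, 0, 0, 1, 0, 0, 1],
  [6, 7, 7, 8, 7, 5, 4, 4, 4, 5, 5, 5, 4, 5, 5, 4, 5, 3, 3, 2, 3, 2, 3, 2, 3, 2, 2, 3, 3, 2, 0, 0, 0, 1, 0, 0, 0, 1, 0, 0, 1, 0, 0, 1, 0, 1],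
  [9, 7, 8, 6, 7, 6, 8, 6, 4, 4, 4, 5, 4, 4, 5, 4, 4, 5, 5, 2, 2, 2, 3, 3, 2, 2, 2, 2, 3, 3, 2, 2, 0, 1, 0, 0, 1, 0, 0, 0, 1, 0, 1, 0, 1, 0, 0, 1],
  [7, 6, 7, 7, 6, 8, 5, 4, 4, 5, 5, 4, 5, 4, 4, 2, 2, 2, 2, 3, 2, 3, 2, 2, 3, 3, 0, 1, 0, 0, 1, 0, 0, 1, 0, 0, 1, 0, 1, 0, 0, 1, 0, 1],
  [9, 8, 8, 6, 6, 8, 7, 4, 4, 5, 5, 5, 5, 4, 5, 4, 4, 5, 2, 3, 2, 3, 2, 3, 2, 2, 2, 3, 2, 3, 3, 0, 0, 0, 1, 0, 0, 0, 1, 0, 1, 0, 0, 0, 0],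
  [9, 6, 8, 6, 8, 7, 7, 5, 4, 4, 4, 5, 4, 3, 3, 2, 3, 2, 3, 3, 2, 3, 3, 3, 2, 2, 2, 0, 1, 0, 0, 1, 0, 1, 0, 0, 1, 0, 1, 0, 1, 0, 0, 1, 0, 0],
  [6, 8, 6, 6, 6, 5, 5, 4, 5, 4, 4, 5, 4, 4, 4, 2, 3, 3, 3, 2, 3, 3, 2, 3, 2, 3, 0, 0, 0, 0, 0, 0, 0, 0, 0, 0, 0, 0, 1, 0, 0, 1, 0, 0],
  [9, 8, 7, 6, 7, 6, 6, 5, 4, 5, 4, 5, 4, 5, 5, 5, 4, 2, 2, 2, 3, 3, 2, 3, 3, 3, 2, 2, 3, 0, 1, 0, 0, 0, 0, 0, 0, 0, 0, 0],
  [9, 7, 6, 7, 8, 7, 7, 5, 5, 4, 5, 4, 3, 2, 2, 2, 2, 3, 2, 2, 3, 2, 3, 2, 1, 0, 1, 0, 0, 1, 0, 0, 0, 0],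
  [9, 7, 7, 6, 8, 8, 6, 4, 4, 4, 5, 5, 4, 4, 4, 5, 5, 5, 4, 2, 3, 2, 3, 2, 2, 3, 2, 3, 2, 0, 0, 0, 0, 0, 1, 0, 0, 0, 0, 0, 0, 0, 0, 1, 0, 0, 0],
  [9, 6, 7, 6, 8, 6, 6, 8, 5, 5, 5, 5, 4, 5, 5, 4, 4, 4, 4, 5, 2, 3, 2, 2, 3, 3, 2, 3, 2, 2, 0, 1, 0, 0, 0, 1, 0, 0, 0, 0, 1, 0, 0, 0, 1, 0],
  [6, 6, 7, 6, 6, 8, 7, 4, 5, 5, 4, 5, 4, 2, 2, 2, 2, 2, 3, 2, 3, 3, 2, 3, 0, 1, 0, 0, 1, 0, 1, 0, 1, 0, 0, 0, 0, 0, 0, 0, 1, 0, 1, 0],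
  [9, 7, 8, 8, 7, 6, 7, 7, 4, 5, 5, 5, 4, 4, 5, 5, 4, 2, 2, 3, 2, 2, 3, 3, 3, 2, 2, 3, 2, 2, 1, 0, 0, 1, 0, 0, 1, 0, 0, 0, 0, 0, 0, 1, 0, 1],
  [9, 7, 8, 7, 8, 6, 7, 6, 7, 5, 4, 5, 5, 4, 4, 5, 4, 5, 4, 4, 2, 3, 3, 3, 2, 2, 3, 2, 3, 2, 2, 0, 0, 0, 1, 0, 1, 0, 0, 0, 1, 0, 1, 0, 1],
  [9, 6, 6, 5, 4, 4, 5, 4, 4, 5, 4, 4, 5, 2, 3, 2, 2, 3, 2, 3, 3, 1, 0, 0, 0, 1, 0, 0, 1],
  [7, 6, 7, 6, 7, 8, 4, 5, 5, 4, 5, 5, 5, 4, 4, 4, 2, 2, 2, 3, 3, 2, 2, 2, 3, 2, 3, 0, 0, 0, 0, 1, 0, 0, 0, 0, 0, 0, 0, 0, 1, 0, 1, 0, 1, 0],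
  [9, 7, 8, 7, 6, 8, 8, 6, 5, 4, 5, 4, 4, 5, 5, 4, 5, 2, 2, 3, 2, 3, 2, 2, 2, 3, 2, 3, 2, 0, 0, 1, 0, 1, 0, 0, 1, 0, 1, 0, 0, 1, 0, 1, 0, 1, 0],
  [6, 6, 7, 6, 6, 6, 8, 7, 4, 5, 5, 5, 4, 5, 5, 3, 3, 2, 2, 3, 3, 0, 0, 0, 0, 1, 0, 0, 1, 0, 0, 1, 0, 1, 0, 0, 0, 0],
  [9, 8, 6, 7, 6, 8, 6, 7, 4, 4, 5, 4, 4, 4, 5, 4, 5, 4, 3, 2, 2, 2, 2, 3, 2, 3, 3, 0, 0, 1, 0, 1, 0, 0, 0, 0, 1, 0, 0, 1],
  [6, 6, 8, 6, 6, 7, 7, 5, 5, 4, 5, 5, 5, 4, 4, 5, 5, 3, 2, 3, 2, 2, 2, 2, 2, 2, 3, 3, 2, 3, 2, 0, 1, 0, 0, 0, 0, 1, 0, 0, 0, 0, 0],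
  [8, 7, 7, 7, 8, 5, 5, 5, 4, 4, 5, 4, 5, 4, 4, 5, 2, 2, 2, 3, 2, 2, 3, 3, 2, 3, 3, 3, 1, 0, 0, 0, 0, 0, 0, 0, 1, 0, 0, 0, 1, 0, 1, 0, 0],
  [9, 6, 6, 6, 7, 8, 7, 7, 5, 4, 5, 4, 4, 5, 5, 5, 5, 2, 2, 3, 2, 3, 2, 3, 3, 3, 2, 3, 2, 0, 1, 0, 0, 0, 0, 1, 0, 0, 1, 0, 0, 1, 0, 0],
  [7, 6, 8, 6, 7, 8, 8, 4, 4, 5, 5, 5, 4, 4, 5, 4, 4, 5, 2, 2, 2, 3, 2, 2, 3, 3, 3, 2, 3, 2, 0, 0, 1, 0, 0, 0, 0, 1, 0, 1, 0, 1, 0, 0, 0, 0, 0, 0, 0],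
  [7, 8, 6, 8, 7, 8, 6, 8, 4, 4, 4, 5, 4, 5, 5, 5, 5, 4, 5, 2, 2, 2, 3, 2, 2, 2, 3, 3, 2, 2, 0, 0, 1, 0, 0, 0, 1, 0, 1, 0, 0, 1, 0, 1],
  [9, 6, 8, 6, 8, 7, 7, 5, 5, 4, 4, 5, 5, 4, 4, 2, 2, 2, 3, 2, 2, 3, 3, 3, 2, 1, 0, 1, 0, 0, 1, 0, 1, 0, 0, 1, 0, 1, 0, 1, 0, 0, 1, 0],
  [8, 6, 6, 8, 7, 8, 4, 5, 5, 5, 5, 4, 5, 5, 4, 4, 4, 4, 5, 3, 2, 3, 3, 2, 3, 3, 2, 2, 2, 2, 3, 0, 0, 0, 1, 0, 1, 0, 0, 0, 0, 0, 0, 1, 0, 0],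
  [6, 8, 7, 8, 6, 6, 7, 4, 4, 5, 4, 5, 4, 5, 4, 5, 4, 4, 5, 2, 2, 2, 2, 3, 2, 3, 2, 2, 2, 2, 2, 0, 0, 0, 0, 0, 0, 1, 0, 0, 0, 1, 0, 1, 0, 1, 0, 0],
  [6, 6, 6, 7, 8, 4, 4, 4, 5, 4, 4, 4, 5, 5, 5, 3, 3, 2, 2, 2, 3, 3, 2, 2, 0, 0, 0, 0, 0, 1, 0, 0, 1, 0, 0, 1, 0, 0, 0, 1, 0, 1]]
def wds (j : Nat) : List Nat := wdsL.getD j []

def Bs : List Nat := [0, 556, 562, 613, 1]

def rs : List (List Bool × Nat × Nat) := [([true, false], 5, 916),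
  ([true, false], 5, 667),
  ([true, true, true, false], 12, 985),
  ([true, false, true, true, true, true, false, true, true, true, false], 12, 1194)]

def goods : List (Nat × Nat) := [(42258, 0), (8351, 1), (13354, 2), (5994, 3), (41674, 4), (7531, 5), (22017, 6), (45792, 7), (27219, 8), (23858, 9), (51654, 10), (6196, 11), (43026, 12), (20475, 13), (1666, 14), (34552, 15), (52770, 16), (31027, 17), (22746, 18), (23890, 19), (5780, 20), (11715, 21), (36464, 22)]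

def goodIdx : List Nat := goods.map Prod.fst

def R2 : List (Nat × List (List Bool × Nat × Nat)) := [(5, [([true, false], 5, 2556), ([true, true, true, false], 12, 2373), ([true, false], 5, 3638), ([true, false, true, true, true, true, false, true, true, true, false], 12, 1194)])]


end Cfsg.Agent.Lib.PermComp.OutP.Co2o
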