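import Cfsg.Agent.Lib.PermComp.OutP.Co2o.Data

set_option autoImplicit false
set_option maxRecDepth 100000
set_option maxHeartbeats 0

namespace Cfsg.Agent.Lib.PermComp.OutP.Co2o

open Cfsg Cfsg.Agent.Lib.PermComp.OutP
open Cfsg.Agent.Lib.PermComp.Core (force)
open Cfsg.Agent.Lib.PermComp.Kron (rangeAll rangeAll_spec)

theorem pk_c0 : rangeAll (pkOK2 F n 56925 (DD.v F) (rootO Os) wds 3 SS Bs) 0 8192 = true := by decide +kernel
theorem pk_c1 : rangeAll (pkOK2 F n 56925 (DD.v F) (rootO Os) wds 3 SS Bs) 8192 8192 = true := by decide +kernel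
theorem pk_c2 : rangeAll (pkOK2 F n 56925 (DD.v F) (rootO Os) wds 3 SS Bs) 16384 8192 = true := by decide +kernel
theorem pk_c3 : rangeAll (pkOK2 F n 56925 (DD.v F) (rootO Os) wds 3 SS Bs) 24576 8192 = true := by decide +kernel
theorem pk_c4 : rangeAll (pkOK2 F n 56925 (DD.v F) (rootO Os) wds 3 SS Bs) 32768 8192 = true := by decide +kernel
theorem pk_c5 : rangeAll (pkOK2 F n 56925 (DD.v F) (rootO Os) wds 3 SS Bs) 40960 8192 = true := by decide +kernel
theorem pk_c6 : rangeAll (pkOK2 F n 56925 (DD.v F) (rootO Os) wds 3 SS Bs) 49152 8192 = true := by decide +kernel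
theorem pk_c7 : rangeAll (pkOK2 F n 56925 (DD.v F) (rootO Os) wds 3 SS Bs) 57344 8192 = true := by decide +kernel
theorem pk_c8 : rangeAll (pkOK2 F n 56925 (DD.v F) (rootO Os) wds 3 SS Bs) 65536 8192 = true := by decide +kernel
theorem pk_c9 : rangeAll (pkOK2 F n 56925 (DD.v F) (rootO Os) wds 3 SS Bs) 73728 8192 = true := by decide +kernel
theorem pk_c10 : rangeAll (pkOK2 F n 56925 (DD.v F) (rootO Os) wds 3 SS Bs) 81920 8192 = true := by decide +kernel
theorem pk_c11 : rangeAll (pkOK2 F n 56925 (DD.v F) (rootO Os) wds 3 SS Bs) 90112 8192 = true := by decide +kernel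
theorem pk_c12 : rangeAll (pkOK2 F n 56925 (DD.v F) (rootO Os) wds 3 SS Bs) 98304 8192 = true := by decide +kernel
theorem pk_c13 : rangeAll (pkOK2 F n 56925 (DD.v F) (rootO Os) wds 3 SS Bs) 106496 8192 = true := by decide +kernel
theorem pk_c14 : rangeAll (pkOK2 F n 56925 (DD.v F) (rootO Os) wds 3 SS Bs) 114688 8192 = true := by decide +kernel
theorem pk_c15 : rangeAll (pkOK2 F n 56925 (DD.v F) (rootO Os) wds 3 SS Bs) 122880 8192 = true := by decide +kernel

end Cfsg.Agent.Lib.PermComp.OutP.Co2o
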