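import Cfsg.Agent.Lib.PermComp.OutP.Co2o.Data

set_option autoImplicit false
set_option maxRecDepth 100000
set_option maxHeartbeats 0

namespace Cfsg.Agent.Lib.PermComp.OutP.Co2o

open Cfsg Cfsg.Agent.Lib.PermComp.OutP
open Cfsg.Agent.Lib.PermComp.Core (force)
open Cfsg.Agent.Lib.PermComp.Kron (rangeAll rangeAll_spec)

theorem pk_c16 : rangeAll (pkOK2 F n 56925 (DD.v F) (rootO Os) wds 3 SS Bs) 131072 8192 = true := by decide +kernel
theorem pk_c17 : rangeAll (pkOK2 F n 56925 (DD.v F) (rootO Os) wds 3 SS Bs) 139264 8192 = true := by decide +kernel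
theorem pk_c18 : rangeAll (pkOK2 F n 56925 (DD.v F) (rootO Os) wds 3 SS Bs) 147456 8192 = true := by decide +kernel
theorem pk_c19 : rangeAll (pkOK2 F n 56925 (DD.v F) (rootO Os) wds 3 SS Bs) 155648 8192 = true := by decide +kernel
theorem pk_c20 : rangeAll (pkOK2 F n 56925 (DD.v F) (rootO Os) wds 3 SS Bs) 163840 8192 = true := by decide +kernel
theorem pk_c21 : rangeAll (pkOK2 F n 56925 (DD.v F) (rootO Os) wds 3 SS Bs) 172032 8192 = true := by decide +kernel
theorem pk_c22 : rangeAll (pkOK2 F n 56925 (DD.v F) (rootO Os) wds 3 SS Bs) 180224 8192 = true := by decide +kernel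
theorem pk_c23 : rangeAll (pkOK2 F n 56925 (DD.v F) (rootO Os) wds 3 SS Bs) 188416 8192 = true := by decide +kernel
theorem pk_c24 : rangeAll (pkOK2 F n 56925 (DD.v F) (rootO Os) wds 3 SS Bs) 196608 8192 = true := by decide +kernel
theorem pk_c25 : rangeAll (pkOK2 F n 56925 (DD.v F) (rootO Os) wds 3 SS Bs) 204800 8192 = true := by decide +kernel
theorem pk_c26 : rangeAll (pkOK2 F n 56925 (DD.v F) (rootO Os) wds 3 SS Bs) 212992 8192 = true := by decide +kernel
theorem pk_c27 : rangeAll (pkOK2 F n 56925 (DD.v F) (rootO Os) wds 3 SS Bs) 221184 8192 = true := by decide +kernel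
theorem pk_c28 : rangeAll (pkOK2 F n 56925 (DD.v F) (rootO Os) wds 3 SS Bs) 229376 8192 = true := by decide +kernel
theorem pk_c29 : rangeAll (pkOK2 F n 56925 (DD.v F) (rootO Os) wds 3 SS Bs) 237568 8192 = true := by decide +kernel
theorem pk_c30 : rangeAll (pkOK2 F n 56925 (DD.v F) (rootO Os) wds 3 SS Bs) 245760 8192 = true := by decide +kernel
theorem pk_c31 : rangeAll (pkOK2 F n 56925 (DD.v F) (rootO Os) wds 3 SS Bs) 253952 8192 = true := by decide +kernel

end Cfsg.Agent.Lib.PermComp.OutP.Co2o
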