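import Cfsg.Agent.Lib.PermComp.OutP.Co2o.Data

set_option autoImplicit false
set_option maxRecDepth 100000
set_option maxHeartbeats 0

namespace Cfsg.Agent.Lib.PermComp.OutP.Co2o

open Cfsg Cfsg.Agent.Lib.PermComp.OutP
open Cfsg.Agent.Lib.PermComp.Core (force)
open Cfsg.Agent.Lib.PermComp.Kron (rangeAll rangeAll_spec)

theorem dL0_lv : rangeAll (levOK n F dL0) 0 4600 = true := by decide +kernel
theorem dL0_fx : fixOK F 0 2 [] = true := by decide +kernel
theorem dL1_lv : rangeAll (levOK n F dL1) 0 2816 = true := by decide +kernel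
theorem dL1_fx : fixOK F 2 2 [0] = true := by decide +kernel
theorem dL2_lv : rangeAll (levOK n F dL2) 0 1680 = true := by decide +kernel
theorem dL2_fx : fixOK F 4 2 [556, 0] = true := by decide +kernel
theorem dL3_lv : rangeAll (levOK n F dL3) 0 972 = true := by decide +kernel
theorem dL3_fx : fixOK F 6 3 [562, 556, 0] = true := by decide +kernel
theorem dL4_lv : rangeAll (levOK n F dL4) 0 2 = true := by decide +kernel
theorem dL4_fx : fixOK F 9 2 [613, 562, 556, 0] = true := by decide +kernel
theorem cL0_lv : rangeAll (levOK n F cL0) 0 4032 = true := by decide +kernel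
theorem cL0_fx : fixOK F 23 4 [] = true := by decide +kernel
theorem cL0_cm : rangeAll (fun g => rangeAll (fun q => Nat.beq (F g (F 1 q)) (F 1 (F g q))) 0 4600) 23 4 = true := by decide +kernel
theorem cL1_lv : rangeAll (levOK n F cL1) 0 1440 = true := by decide +kernel
theorem cL1_fx : fixOK F 27 2 [1] = true := by decide +kernel
theorem cL1_cm : rangeAll (fun g => rangeAll (fun q => Nat.beq (F g (F 1 q)) (F 1 (F g q))) 0 4600) 27 2 = true := by decide +kernel
theorem cL2_lv : rangeAll (levOK n F cL2) 0 64 = true := by decide +kernel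
theorem cL2_fx : fixOK F 29 3 [301, 1] = true := by decide +kernel
theorem cL2_cm : rangeAll (fun g => rangeAll (fun q => Nat.beq (F g (F 1 q)) (F 1 (F g q))) 0 4600) 29 3 = true := by decide +kernel
theorem cL3_lv : rangeAll (levOK n F cL3) 0 2 = true := by decide +kernel
theorem cL3_fx : fixOK F 32 2 [2, 301, 1] = true := by decide +kernel
theorem cL3_cm : rangeAll (fun g => rangeAll (fun q => Nat.beq (F g (F 1 q)) (F 1 (F g q))) 0 4600) 32 2 = true := by decide +kernel
theorem zinv_ck : rangeAll (fun g => rangeAll (fun q => Nat.beq (F g (F g q)) q) 0 4600) 42 8 = true := by decide +kernel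
theorem b2_ck : rangeAll (fun q => Nat.beq (F 1 (F 1 q)) q) 0 4600 = true := by decide +kernel
theorem Ap_ck : rangeAll (fun q => Nat.beq (powA (F 0) 23 q) q) 0 4600 = true := by decide +kernel
theorem b1_ck : F 1 0 ≠ 0 := by decide +kernel
theorem A1_ck : F 0 0 ≠ 0 := by decide +kernel
theorem rel_ck : Core.allL (fun r => rangeAll (relAll (F 0) (F 1) r.1 r.2.1) 0 4600) rs = true := by decide +kernel
theorem good_ck : Core.allL (fun x => Core.ifB (Nat.ble x.2 23) (goodOK F DD 0 23 Bs x)) goods = true := by decide +kernel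
theorem cr_ck : rangeAll (fun q => Nat.beq (F 68 (F 0 q)) (powA (F 0) 2 (F 68 q))) 0 4600 = true := by decide +kernel

end Cfsg.Agent.Lib.PermComp.OutP.Co2o
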