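import Cfsg.Agent.Lib.PermComp.OutP.Co2o.Data

set_option autoImplicit false
set_option maxRecDepth 100000
set_option maxHeartbeats 0

namespace Cfsg.Agent.Lib.PermComp.OutP.Co2o

open Cfsg Cfsg.Agent.Lib.PermComp.OutP
open Cfsg.Agent.Lib.PermComp.Core (force)
open Cfsg.Agent.Lib.PermComp.Kron (rangeAll rangeAll_spec)

theorem r2_c0_0 : rangeAll (fun i => relAny (powA (F 0) 5) (DD.v F i) (R2.getD 0 (0, [])).2) 0 56925 = true := by decide +kernel

end Cfsg.Agent.Lib.PermComp.OutP.Co2o
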