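import Cfsg.Agent.Lib.PermComp.OutP.Co2o.Data

set_option autoImplicit false
set_option maxRecDepth 100000
set_option maxHeartbeats 0

namespace Cfsg.Agent.Lib.PermComp.OutP.Co2o

open Cfsg Cfsg.Agent.Lib.PermComp.OutP
open Cfsg.Agent.Lib.PermComp.Core (force)
open Cfsg.Agent.Lib.PermComp.Kron (rangeAll rangeAll_spec)

theorem hp_52 : progR F 52 (prog 52) 0 4600 = true := by decide +kernel
theorem hp_53 : progR F 53 (prog 53) 0 4600 = true := by decide +kernel
theorem hp_54 : progR F 54 (prog 54) 0 4600 = true := by decide +kernel
theorem hp_55 : progR F 55 (prog 55) 0 4600 = true := by decide +kernel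
theorem hp_56 : progR F 56 (prog 56) 0 4600 = true := by decide +kernel
theorem hp_57 : progR F 57 (prog 57) 0 4600 = true := by decide +kernel
theorem hp_58 : progR F 58 (prog 58) 0 4600 = true := by decide +kernel
theorem hp_59 : progR F 59 (prog 59) 0 4600 = true := by decide +kernel
theorem hp_60 : progR F 60 (prog 60) 0 4600 = true := by decide +kernel
theorem hp_61 : progR F 61 (prog 61) 0 4600 = true := by decide +kernel
theorem hp_62 : progR F 62 (prog 62) 0 4600 = true := by decide +kernel
theorem hp_63 : progR F 63 (prog 63) 0 4600 = true := by decide +kernel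
theorem hp_64 : progR F 64 (prog 64) 0 4600 = true := by decide +kernel
theorem hp_65 : progR F 65 (prog 65) 0 4600 = true := by decide +kernel
theorem hp_66 : progR F 66 (prog 66) 0 4600 = true := by decide +kernel
theorem hp_67 : progR F 67 (prog 67) 0 4600 = true := by decide +kernel
theorem hp_68 : progR F 68 (prog 68) 0 4600 = true := by decide +kernel
theorem hp_69 : progR F 69 (prog 69) 0 4600 = true := by decide +kernel
theorem hp_70 : progR F 70 (prog 70) 0 4600 = true := by decide +kernel
theorem hp_71 : progR F 71 (prog 71) 0 4600 = true := by decide +kernel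
theorem hp2_74 : progR F 74 (prog2 74) 0 4600 = true := by decide +kernel
theorem hp2_75 : progR F 75 (prog2 75) 0 4600 = true := by decide +kernel
theorem hp2_76 : progR F 76 (prog2 76) 0 4600 = true := by decide +kernel

end Cfsg.Agent.Lib.PermComp.OutP.Co2o
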