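import Cfsg.Agent.Lib.PermComp.OutP.Co2o.Data

set_option autoImplicit false
set_option maxRecDepth 100000
set_option maxHeartbeats 0

namespace Cfsg.Agent.Lib.PermComp.OutP.Co2o

open Cfsg Cfsg.Agent.Lib.PermComp.OutP
open Cfsg.Agent.Lib.PermComp.Core (force)
open Cfsg.Agent.Lib.PermComp.Kron (rangeAll rangeAll_spec)

theorem hp2_77 : progR F 77 (prog2 77) 0 4600 = true := by decide +kernel
theorem hp2_78 : progR F 78 (prog2 78) 0 4600 = true := by decide +kernel
theorem hp2_79 : progR F 79 (prog2 79) 0 4600 = true := by decide +kernel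
theorem hp2_80 : progR F 80 (prog2 80) 0 4600 = true := by decide +kernel
theorem hp2_81 : progR F 81 (prog2 81) 0 4600 = true := by decide +kernel
theorem hp2_82 : progR F 82 (prog2 82) 0 4600 = true := by decide +kernel
theorem hp2_83 : progR F 83 (prog2 83) 0 4600 = true := by decide +kernel
theorem hp2_84 : progR F 84 (prog2 84) 0 4600 = true := by decide +kernel
theorem hp2_85 : progR F 85 (prog2 85) 0 4600 = true := by decide +kernel
theorem hp2_86 : progR F 86 (prog2 86) 0 4600 = true := by decide +kernel
theorem hp2_87 : progR F 87 (prog2 87) 0 4600 = true := by decide +kernel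
theorem hp2_88 : progR F 88 (prog2 88) 0 4600 = true := by decide +kernel

end Cfsg.Agent.Lib.PermComp.OutP.Co2o
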