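import Cfsg.Agent.Lib.PermComp.OutP.Co2o.ChkT0
import Cfsg.Agent.Lib.PermComp.OutP.Co2o.ChkT1
import Cfsg.Agent.Lib.PermComp.OutP.Co2o.ChkT2
import Cfsg.Agent.Lib.PermComp.OutP.Co2o.ChkS0
import Cfsg.Agent.Lib.PermComp.OutP.Co2o.ChkR0
import Cfsg.Agent.Lib.PermComp.OutP.Co2o.ChkK0
import Cfsg.Agent.Lib.PermComp.OutP.Co2o.ChkK1
import Cfsg.Agent.Lib.PermComp.OutP.Co2o.ChkL
import Cfsg.Agent.Lib.PermComp.OutP.Co2o.ChkO
import Cfsg.Agent.Lib.PermComp.OutP.Co2o.ChkP

set_option autoImplicit false
set_option maxRecDepth 100000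
set_option maxHeartbeats 0

namespace Cfsg.Agent.Lib.PermComp.OutP.Co2o

open Cfsg Cfsg.Agent.Lib.PermComp.OutP
open Cfsg.Agent.Lib.PermComp.Core (force)
open Cfsg.Agent.Lib.PermComp.Kron (rangeAll rangeAll_spec)

theorem hn : 0 < n := by decide

theorem hlt : ∀ g < 72, 2 ≤ g → ∀ a ∈ prog g, a < g := by
  intro g hg _ a ha
  have h := range_of (p := fun g => Core.allL (fun a => Nat.blt a g) (prog g)) (lo := 0) (len := 72) (hi := 72) hlt_ck rfl g (Nat.zero_le _) hg
  exact blt_lt ((Core.allL_eq_true _ _).1 h a ha)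

theorem hp : ∀ g < 72, 2 ≤ g → ∀ q < 4600, F g q = wApp F (prog g) q := by
  intro g hg h2 q hq
  have h : progR F g (prog g) 0 4600 = true := by
    interval_cases g
    · exact hp_2
    · exact hp_3
    · exact hp_4
    · exact hp_5
    · exact hp_6
    · exact hp_7
    · exact hp_8
    · exact hp_9
    · exact hp_10
    · exact hp_11
    · exact hp_12
    · exact hp_13
    · exact hp_14
    · exact hp_15
    · exact hp_16
    · exact hp_17
    · exact hp_18
    · exact hp_19
    · exact hp_20
    · exact hp_21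
    · exact hp_22
    · exact hp_23
    · exact hp_24
    · exact hp_25
    · exact hp_26
    · exact hp_27
    · exact hp_28
    · exact hp_29
    · exact hp_30
    · exact hp_31
    · exact hp_32
    · exact hp_33
    · exact hp_34
    · exact hp_35
    · exact hp_36
    · exact hp_37
    · exact hp_38
    · exact hp_39
    · exact hp_40
    · exact hp_41
    · exact hp_42
    · exact hp_43
    · exact hp_44
    · exact hp_45
    · exact hp_46
    · exact hp_47
    · exact hp_48
    · exact hp_49
    · exact hp_50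
    · exact hp_51
    · exact hp_52
    · exact hp_53
    · exact hp_54
    · exact hp_55
    · exact hp_56
    · exact hp_57
    · exact hp_58
    · exact hp_59
    · exact hp_60
    · exact hp_61
    · exact hp_62
    · exact hp_63
    · exact hp_64
    · exact hp_65
    · exact hp_66
    · exact hp_67
    · exact hp_68
    · exact hp_69
    · exact hp_70
    · exact hp_71
  exact Nat.eq_of_beq_eq_true (rangeAll_spec h q (Nat.zero_le _) (by omega))

theorem hds : LevsC n 72 F [] ds := ⟨fun s hs => range_of (p := levOK n F dL0) (lo := 0) (len := 4600) (hi := 4600) dL0_lv rfl s (Nat.zero_le _) hs, by decide +kernel, by decide +kernel, dL0_fx, by decide +kernel, ⟨fun s hs => range_of (p := levOK n F dL1) (lo := 0) (len := 2816) (hi := 2816) dL1_lv rfl s (Nat.zero_le _) hs, by decide +kernel, by decide +kernel, dL1_fx, by decide +kernel, ⟨fun s hs => range_of (p := levOK n F dL2) (lo := 0) (len := 1680) (hi := 1680) dL2_lv rfl s (Nat.zero_le _) hs, by decide +kernel, by decide +kernel, dL2_fx, by decide +kernel,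 ⟨fun s hs => range_of (p := levOK n F dL3) (lo := 0) (len := 972) (hi := 972) dL3_lv rfl s (Nat.zero_le _) hs, by decide +kernel, by decide +kernel, dL3_fx, by decide +kernel, ⟨fun s hs => range_of (p := levOK n F dL4) (lo := 0) (len := 2) (hi := 2) dL4_lv rfl s (Nat.zero_le _) hs, by decide +kernel, by decide +kernel, dL4_fx, by decide +kernel, trivial⟩⟩⟩⟩⟩

theorem hcs : LevsC n 72 F [] cs := ⟨fun s hs => range_of (p := levOK n F cL0) (lo := 0) (len := 4032) (hi := 4032) cL0_lv rfl s (Nat.zero_le _) hs, by decide +kernel, by decide +kernel, cL0_fx, by decide +kernel, ⟨fun s hs => range_of (p := levOK n F cL1) (lo := 0) (len := 1440) (hi := 1440) cL1_lv rfl s (Nat.zero_le _) hs, by decide +kernel, by decide +kernel, cL1_fx, by decide +kernel, ⟨fun s hs => range_of (p := levOK n F cL2) (lo := 0) (len := 64) (hi := 64) cL2_lv rfl s (Nat.zero_le _) hs, by decide +kernel, by decide +kernel, cL2_fx, by decide +kernel, ⟨fun s hs => range_of (p := levOK n F cL3) (lo := 0) (len := 2) (hi := 2) cL3_lv rfl s (Nat.zero_le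 _) hs, by decide +kernel, by decide +kernel, cL3_fx, by decide +kernel, trivial⟩⟩⟩⟩

theorem hdsm : ∀ d ∈ ds, d.off + d.cnt ≤ 72 := by
  have h : Core.allL (fun d => Nat.ble (d.off + d.cnt) 72) ds = true := by decide +kernel
  exact fun d hd => Nat.le_of_ble_eq_true ((Core.allL_eq_true _ _).1 h d hd)

theorem hcomm : ∀ d ∈ cs, d.off + d.cnt ≤ 72 ∧ ∀ g, d.off ≤ g → g < d.off + d.cnt → ∀ q < 4600, F g (F 1 q) = F 1 (F g q) := by
  intro d hd
  simp only [cs, List.mem_cons, List.not_mem_nil, or_false] at hd
  rcases hd with rfl | rfl | rfl | rfl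
  · refine ⟨by decide +kernel, fun g h1 h2 q hq => ?_⟩
    have h := rangeAll_spec cL0_cm g h1 (by simpa [cL0] using h2)
    exact Nat.eq_of_beq_eq_true (rangeAll_spec h q (Nat.zero_le _) (by simpa [n] using hq))
  · refine ⟨by decide +kernel, fun g h1 h2 q hq => ?_⟩
    have h := rangeAll_spec cL1_cm g h1 (by simpa [cL1] using h2)
    exact Nat.eq_of_beq_eq_true (rangeAll_spec h q (Nat.zero_le _) (by simpa [n] using hq))
  · refine ⟨by decide +kernel, fun g h1 h2 q hq => ?_⟩
    have h := rangeAll_spec cL2_cm g h1 (by simpa [cL2] using h2)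
    exact Nat.eq_of_beq_eq_true (rangeAll_spec h q (Nat.zero_le _) (by simpa [n] using hq))
  · refine ⟨by decide +kernel, fun g h1 h2 q hq => ?_⟩
    have h := rangeAll_spec cL3_cm g h1 (by simpa [cL3] using h2)
    exact Nat.eq_of_beq_eq_true (rangeAll_spec h q (Nat.zero_le _) (by simpa [n] using hq))

theorem hsort : ∀ j, j + 1 < DD.L → DD.key n F j < DD.key n F (j + 1) := by
  have h : ∀ j, 0 ≤ j → j < 56924 → DD.key n F j < DD.key n F (j + 1) := by
    exact (join_range (fun j h1 h2 => sortR_spec srt_c0 j h1 (by omega)) (join_range (fun j h1 h2 => sortR_spec srt_c1 j h1 (by omega)) (fun j h1 h2 => sortR_spec srt_c2 j h1 (by omega))))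
  intro j hj
  have hL : DD.L = 56925 := rfl
  exact h j (Nat.zero_le _) (by omega)

theorem hD : DD.OK n 72 F where
  ht0 := by decide +kernel
  hcnt := by decide +kernel
  hoff := by decide +kernel
  hQ := by
    have h : Core.allL (fun q => Nat.blt q n) DD.Q = true := by decide +kernel
    exact fun q hq => blt_lt ((Core.allL_eq_true _ _).1 h q hq)
  hinvol := by
    intro g h1 h2 p hp
    have h := rangeAll_spec zinv_ck g h1 (by simpa [DD] using h2)
    exact Nat.eq_of_beq_eq_true (rangeAll_spec h p (Nat.zero_le _) (by simpa [n] using hp))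
  hsort := hsort

theorem hO0 : OO0.OK n 72 F where
  ht0 := by decide +kernel
  hcnt := by decide +kernel
  hoff := by decide +kernel
  hQ := by
    have h : Core.allL (fun q => Nat.blt q n) OO0.Q = true := by decide +kernel
    exact fun q hq => blt_lt ((Core.allL_eq_true _ _).1 h q hq)
  hinvol := by
    intro g h1 h2 p hp
    have h := rangeAll_spec zinv_ck g h1 (by simpa [OO0] using h2)
    exact Nat.eq_of_beq_eq_true (rangeAll_spec h p (Nat.zero_le _) (by simpa [n] using hp))
  hsort := by
    have h : ∀ j, 0 ≤ j → j < 56926 → OO0.key n F j < OO0.key n F (j + 1) := by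
      exact (join_range (fun j h1 h2 => sortR_spec srtO0_c0 j h1 (by omega)) (join_range (fun j h1 h2 => sortR_spec srtO0_c1 j h1 (by omega)) (fun j h1 h2 => sortR_spec srtO0_c2 j h1 (by omega))))
    intro j hj
    have hL : OO0.L = 56927 := rfl
    exact h j (Nat.zero_le _) (by omega)

theorem hO1 : OO1.OK n 72 F where
  ht0 := by decide +kernel
  hcnt := by decide +kernel
  hoff := by decide +kernel
  hQ := by
    have h : Core.allL (fun q => Nat.blt q n) OO1.Q = true := by decide +kernel
    exact fun q hq => blt_lt ((Core.allL_eq_true _ _).1 h q hq)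
  hinvol := by
    intro g h1 h2 p hp
    have h := rangeAll_spec zinv_ck g h1 (by simpa [OO1] using h2)
    exact Nat.eq_of_beq_eq_true (rangeAll_spec h p (Nat.zero_le _) (by simpa [n] using hp))
  hsort := by
    have h : ∀ j, 0 ≤ j → j < 56930 → OO1.key n F j < OO1.key n F (j + 1) := by
      exact (join_range (fun j h1 h2 => sortR_spec srtO1_c0 j h1 (by omega)) (join_range (fun j h1 h2 => sortR_spec srtO1_c1 j h1 (by omega)) (fun j h1 h2 => sortR_spec srtO1_c2 j h1 (by omega))))
    intro j hj
    have hL : OO1.L = 56931 := rfl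
    exact h j (Nat.zero_le _) (by omega)

theorem hO2 : OO2.OK n 72 F where
  ht0 := by decide +kernel
  hcnt := by decide +kernel
  hoff := by decide +kernel
  hQ := by
    have h : Core.allL (fun q => Nat.blt q n) OO2.Q = true := by decide +kernel
    exact fun q hq => blt_lt ((Core.allL_eq_true _ _).1 h q hq)
  hinvol := by
    intro g h1 h2 p hp
    have h := rangeAll_spec zinv_ck g h1 (by simpa [OO2] using h2)
    exact Nat.eq_of_beq_eq_true (rangeAll_spec h p (Nat.zero_le _) (by simpa [n] using hp))
  hsort := by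
    have h : ∀ j, 0 ≤ j → j < 56929 → OO2.key n F j < OO2.key n F (j + 1) := by
      exact (join_range (fun j h1 h2 => sortR_spec srtO2_c0 j h1 (by omega)) (join_range (fun j h1 h2 => sortR_spec srtO2_c1 j h1 (by omega)) (fun j h1 h2 => sortR_spec srtO2_c2 j h1 (by omega))))
    intro j hj
    have hL : OO2.L = 56930 := rfl
    exact h j (Nat.zero_le _) (by omega)

theorem hOs : ∀ O ∈ Os, O.OK n 72 F ∧ DD.L < O.L := by
  intro O hO
  simp only [Os, List.mem_cons, List.not_mem_nil, or_false] at hO
  rcases hO with rfl | rfl | rfl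
  · exact ⟨hO0, by decide +kernel⟩
  · exact ⟨hO1, by decide +kernel⟩
  · exact ⟨hO2, by decide +kernel⟩

theorem hS : SS.OK n 72 DD.L F (DD.v F) (rootO Os) wds Os.length Bs where
  hoff := by decide +kernel
  hBs := by
    have h : Core.allL (fun q => Nat.blt q n) Bs = true := by decide +kernel
    exact fun q hq => blt_lt ((Core.allL_eq_true _ _).1 h q hq)
  hrel := by
    intro k hk
    have hk' : k < 18 := hk
    clear hk
    interval_cases k
    · exact prel_0
    · exact prel_1
    · exact prel_2
    · exact prel_3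
    · exact prel_4
    · exact prel_5
    · exact prel_6
    · exact prel_7
    · exact prel_8
    · exact prel_9
    · exact prel_10
    · exact prel_11
    · exact prel_12
    · exact prel_13
    · exact prel_14
    · exact prel_15
    · exact prel_16
    · exact prel_17
  hW := by
    intro k hk
    have hk' : k < 18 := hk
    clear hk
    interval_cases k
    · exact pW_0
    · exact pW_1
    · exact pW_2
    · exact pW_3
    · exact pW_4
    · exact pW_5
    · exact pW_6
    · exact pW_7
    · exact pW_8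
    · exact pW_9
    · exact pW_10
    · exact pW_11
    · exact pW_12
    · exact pW_13
    · exact pW_14
    · exact pW_15
    · exact pW_16
    · exact pW_17
  hC := by
    intro l hl q hq
    have hl' : l < 3 := hl
    clear hl
    interval_cases l
    · exact rangeAll_spec pC_0 q (Nat.zero_le _) (by simpa [n] using hq)
    · exact rangeAll_spec pC_1 q (Nat.zero_le _) (by simpa [n] using hq)
    · exact rangeAll_spec pC_2 q (Nat.zero_le _) (by simpa [n] using hq)
  hkind := by
    intro i hi
    have h0 : (2 : Nat) ^ SS.a = 262144 := by decide +kernel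
    have hi' : i < 262144 := by rw [← h0]; exact hi
    exact (join_range (join_range (join_range (join_range (join_range (range_of (p := (pkOK2 F n 56925 (DD.v F) (rootO Os) wds 3 SS Bs)) (lo := 0) (len := 8192) (hi := 8192) pk_c0 rfl) (range_of (p := (pkOK2 F n 56925 (DD.v F) (rootO Os) wds 3 SS Bs)) (lo := 8192) (len := 8192) (hi := 16384) pk_c1 rfl)) (join_range (range_of (p := (pkOK2 F n 56925 (DD.v F) (rootO Os) wds 3 SS Bs)) (lo := 16384) (len := 8192) (hi := 24576) pk_c2 rfl) (range_of (p := (pkOK2 F n 56925 (DD.v F) (rootO Os) wds 3 SS Bs)) (lo := 24576) (len := 8192) (hi := 32768) pk_c3 rfl))) (join_range (join_range (range_of (p := (pkOK2 F n 56925 (DD.v F) (rootO Os) wds 3 SS Bs)) (lo := 32768) (len := 8192) (hi := 40960) pk_c4 rfl) (range_of (p := (pkOK2 F n 56925 (DD.v F) (rootO Os) wds 3 SS Bs)) (lo := 40960) (len := 8192) (hi := 49152) pk_c5 rfl)) (join_range (range_of (p := (pkOK2 F n 56925 (DD.v F) (rootO Os) wds 3 SS Bs)) (lo := 49152) (len := 8192) (hi := 57344) pk_c6 rfl) (range_of (p := (pkOK2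 F n 56925 (DD.v F) (rootO Os) wds 3 SS Bs)) (lo := 57344) (len := 8192) (hi := 65536) pk_c7 rfl)))) (join_range (join_range (join_range (range_of (p := (pkOK2 F n 56925 (DD.v F) (rootO Os) wds 3 SS Bs)) (lo := 65536) (len := 8192) (hi := 73728) pk_c8 rfl) (range_of (p := (pkOK2 F n 56925 (DD.v F) (rootO Os) wds 3 SS Bs)) (lo := 73728) (len := 8192) (hi := 81920) pk_c9 rfl)) (join_range (range_of (p := (pkOK2 F n 56925 (DD.v F) (rootO Os) wds 3 SS Bs)) (lo := 81920) (len := 8192) (hi := 90112) pk_c10 rfl) (range_of (p := (pkOK2 F n 56925 (DD.v F) (rootO Os) wds 3 SS Bs)) (lo := 90112) (len := 8192) (hi := 98304) pk_c11 rfl))) (join_range (join_range (range_of (p := (pkOK2 F n 56925 (DD.v F) (rootO Os) wds 3 SS Bs)) (lo := 98304) (len := 8192) (hi := 106496) pk_c12 rfl) (range_of (p := (pkOK2 F n 56925 (DD.v F) (rootO Os) wds 3 SS Bs)) (lo := 106496) (len := 8192) (hi := 114688) pk_c13 rfl)) (join_range (range_of (p := (pkOK2 F n 56925 (DD.v F) (rootO Os) wds 3 SS Bs)) (lo := 114688) (len := 8192) (hi := 122880)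 pk_c14 rfl) (range_of (p := (pkOK2 F n 56925 (DD.v F) (rootO Os) wds 3 SS Bs)) (lo := 122880) (len := 8192) (hi := 131072) pk_c15 rfl))))) (join_range (join_range (join_range (join_range (range_of (p := (pkOK2 F n 56925 (DD.v F) (rootO Os) wds 3 SS Bs)) (lo := 131072) (len := 8192) (hi := 139264) pk_c16 rfl) (range_of (p := (pkOK2 F n 56925 (DD.v F) (rootO Os) wds 3 SS Bs)) (lo := 139264) (len := 8192) (hi := 147456) pk_c17 rfl)) (join_range (range_of (p := (pkOK2 F n 56925 (DD.v F) (rootO Os) wds 3 SS Bs)) (lo := 147456) (len := 8192) (hi := 155648) pk_c18 rfl) (range_of (p := (pkOK2 F n 56925 (DD.v F) (rootO Os) wds 3 SS Bs)) (lo := 155648) (len := 8192) (hi := 163840) pk_c19 rfl))) (join_range (join_range (range_of (p := (pkOK2 F n 56925 (DD.v F) (rootO Os) wds 3 SS Bs)) (lo := 163840) (len := 8192) (hi := 172032) pk_c20 rfl) (range_of (p := (pkOK2 F n 56925 (DD.v F) (rootO Os) wds 3 SS Bs)) (lo := 172032) (len := 8192) (hi := 180224) pk_c21 rfl)) (join_range (range_of (p := (pkOK2 F n 56925 (DD.v F) (rootO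 Os) wds 3 SS Bs)) (lo := 180224) (len := 8192) (hi := 188416) pk_c22 rfl) (range_of (p := (pkOK2 F n 56925 (DD.v F) (rootO Os) wds 3 SS Bs)) (lo := 188416) (len := 8192) (hi := 196608) pk_c23 rfl)))) (join_range (join_range (join_range (range_of (p := (pkOK2 F n 56925 (DD.v F) (rootO Os) wds 3 SS Bs)) (lo := 196608) (len := 8192) (hi := 204800) pk_c24 rfl) (range_of (p := (pkOK2 F n 56925 (DD.v F) (rootO Os) wds 3 SS Bs)) (lo := 204800) (len := 8192) (hi := 212992) pk_c25 rfl)) (join_range (range_of (p := (pkOK2 F n 56925 (DD.v F) (rootO Os) wds 3 SS Bs)) (lo := 212992) (len := 8192) (hi := 221184) pk_c26 rfl) (range_of (p := (pkOK2 F n 56925 (DD.v F) (rootO Os) wds 3 SS Bs)) (lo := 221184) (len := 8192) (hi := 229376) pk_c27 rfl))) (join_range (join_range (range_of (p := (pkOK2 F n 56925 (DD.v F) (rootO Os) wds 3 SS Bs)) (lo := 229376) (len := 8192) (hi := 237568) pk_c28 rfl) (range_of (p := (pkOK2 F n 56925 (DD.v F) (rootO Os) wds 3 SS Bs)) (lo := 237568) (len := 8192) (hi := 245760) pk_c29 rfl)) (join_range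 (range_of (p := (pkOK2 F n 56925 (DD.v F) (rootO Os) wds 3 SS Bs)) (lo := 245760) (len := 8192) (hi := 253952) pk_c30 rfl) (range_of (p := (pkOK2 F n 56925 (DD.v F) (rootO Os) wds 3 SS Bs)) (lo := 253952) (len := 8192) (hi := 262144) pk_c31 rfl)))))) i (Nat.zero_le _) hi'
  hwds := by
    intro j a_1 ha
    have h : Core.allL (fun w => Core.allL (fun a => Nat.blt a 72) w) wdsL = true := by decide +kernel
    unfold wds at ha
    by_cases hj : j < wdsL.length
    · rw [List.getD_eq_getElem _ _ hj] at ha
      exact blt_lt ((Core.allL_eq_true _ _).1 ((Core.allL_eq_true _ _).1 h _ (List.getElem_mem hj)) a_1 ha)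
    · rw [List.getD_eq_default _ _ (not_lt.1 hj)] at ha
      simp at ha

theorem hC : Common2 n 72 42305421312000 743178240 18 161382375 23 F prog ds cs DD SS Bs Os wds rs goods where
  hn := hn
  hm1 := by decide
  hlt := hlt
  hp := hp
  hds := hds
  hdsm := hdsm
  hprod := by decide +kernel
  hBs := by decide +kernel
  hDt := rfl
  hD := hD
  hcs := hcs
  hcomm := hcomm
  hc := by decide +kernel
  hLc := by decide +kernel
  hS := hS
  hP := by decide +kernel
  hN2 := by decide +kernel
  hmm := by norm_num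
  hOs := hOs
  hb2 := fun q hq => Nat.eq_of_beq_eq_true (rangeAll_spec b2_ck q (Nat.zero_le _) (by simpa [n] using hq))
  hb1 := ⟨0, by decide, b1_ck⟩
  hAp := fun q hq => Nat.eq_of_beq_eq_true (rangeAll_spec Ap_ck q (Nat.zero_le _) (by simpa [n] using hq))
  hA1 := ⟨0, by decide, A1_ck⟩
  hq := by
    have h : Core.allL (fun r => Nat.blt r.2.2 n) rs = true := by decide +kernel
    exact fun r hr => blt_lt ((Core.allL_eq_true _ _).1 h r hr)
  hchk := by
    intro i hi
    exact (join_range (range_of (p := (rchk F 0 DD rs goodIdx)) (lo := 0) (len := 50000) (hi := 50000) rc_c0 rfl) (range_of (p := (rchk F 0 DD rs goodIdx)) (lo := 50000) (len := 6925) (hi := 56925) rc_c1 rfl)) i (Nat.zero_le _) hi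
  hrel := by
    intro r hr q hq
    exact rangeAll_spec ((Core.allL_eq_true _ _).1 rel_ck r hr) q (Nat.zero_le _) (by simpa [n] using hq)
  hgood := by
    intro x hx
    have h := (Core.allL_eq_true _ _).1 good_ck x hx
    rw [Core.ifB_eq_true] at h
    exact ⟨Nat.le_of_ble_eq_true h.1, h.2⟩

theorem hcr : ∀ q < n, F 68 (F 0 q) = powA (F 0) 2 (F 68 q) := fun q hq =>
  Nat.eq_of_beq_eq_true (rangeAll_spec cr_ck q (Nat.zero_le _) (by simpa [n] using hq))

instance fp : Fact (Nat.Prime 23) := ⟨by norm_num⟩

theorem hR2 : ∀ x ∈ R2, (∀ r ∈ x.2, (r.1, r.2.1) ∈ rs.map (fun r => (r.1, r.2.1)) ∧ r.2.2 < n) ∧ ∀ i < DD.L, relAny (powA (F 0) x.1) (DD.v F i) x.2 = true := by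
  intro x hx
  simp only [R2, List.mem_cons, List.not_mem_nil, or_false] at hx
  rcases hx with rfl
  · refine ⟨by decide +kernel, fun i hi => (range_of (p := (fun i => relAny (powA (F 0) 5) (DD.v F i) (R2.getD 0 (0, [])).2)) (lo := 0) (len := 56925) (hi := 56925) r2_c0_0 rfl) i (Nat.zero_le _) hi⟩

/-- The main theorem. -/
theorem main {H : Subgroup (Equiv.Perm (Fin 4600))} (hcard : Nat.card H = 42305421312000) {A b : Equiv.Perm (Fin 4600)} (hA : A ∈ H) (hb : b ∈ H) (rA : Rp (F 0) A) (rb : Rp (F 1) b) : Nat.card (Out H) = 1 := by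
  refine master_one2 hC hcard hA hb rA rb (gc := 68) (r := 2) (mp := 1839366144000) (by decide) hcr (by decide +kernel) (by norm_num) R2 (by decide +kernel) hR2

/-- The two generators are in a group containing the given generators. -/
theorem has_gens {H : Subgroup (Equiv.Perm (Fin 4600))} (hX : ∀ g, 72 ≤ g → g < 74 → Has F H g) : Has F H 0 ∧ Has F H 1 := by
  have h2 : ∀ g, 72 ≤ g → g < 89 → Has F H g := by
    refine has_range hX prog2 ?_ ?_
    · intro g h1 h2
      have hb : Core.allL (fun g => Core.allL (fun a => Core.ifB (Nat.ble 72 a) (Nat.blt a g)) (prog2 g)) (List.range' 74 15) = true := by decide +kernel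
      intro a ha
      have h3 := (Core.allL_eq_true _ _).1 ((Core.allL_eq_true _ _).1 hb g (List.mem_range'_1.2 ⟨h1, by omega⟩)) a ha
      rw [Core.ifB_eq_true] at h3
      exact ⟨Nat.le_of_ble_eq_true h3.1, blt_lt h3.2⟩
    · intro g h1 h2 q hq
      have h : progR F g (prog2 g) 0 4600 = true := by
        interval_cases g
        · exact hp2_74
        · exact hp2_75
        · exact hp2_76
        · exact hp2_77
        · exact hp2_78
        · exact hp2_79
        · exact hp2_80
        · exact hp2_81
        · exact hp2_82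
        · exact hp2_83
        · exact hp2_84
        · exact hp2_85
        · exact hp2_86
        · exact hp2_87
        · exact hp2_88
      exact Nat.eq_of_beq_eq_true (rangeAll_spec h q (Nat.zero_le _) (by omega))
  refine ⟨has_of_word (w := [75]) ?_ ?_, has_of_word (w := [88]) ?_ ?_⟩
  · intro a ha
    simp only [List.mem_singleton] at ha
    subst ha
    exact h2 _ (by norm_num) (by norm_num)
  · have h : rangeAll (fun q => Nat.beq (F 0 q) (wApp F [75] q)) 0 4600 = true := by decide +kernel
    exact fun q hq => Nat.eq_of_beq_eq_true (rangeAll_spec h q (Nat.zero_le _) (by omega))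
  · intro a ha
    simp only [List.mem_singleton] at ha
    subst ha
    exact h2 _ (by norm_num) (by norm_num)
  · have h : rangeAll (fun q => Nat.beq (F 1 q) (wApp F [88] q)) 0 4600 = true := by decide +kernel
    exact fun q hq => Nat.eq_of_beq_eq_true (rangeAll_spec h q (Nat.zero_le _) (by omega))

/-- The final theorem. -/
theorem card_out {H : Subgroup (Equiv.Perm (Fin 4600))} (hcard : Nat.card H = 42305421312000) (hX : ∀ g, 72 ≤ g → g < 74 → Has F H g) : Nat.card (Out H) = 1 := by
  obtain ⟨⟨A, hA, rA⟩, ⟨b, hb, rb⟩⟩ := has_gens hX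
  exact main hcard hA hb rA rb

/-- The lower bound of the order. -/
theorem card_ge {H : Subgroup (Equiv.Perm (Fin 4600))} (hX : ∀ g, 72 ≤ g → g < 74 → Has F H g) : 42305421312000 ≤ Nat.card H := by
  obtain ⟨h0, h1⟩ := has_gens hX
  have h := card_ge_of_data hn prog hlt hp ds hds hdsm h0 h1
  have e : 42305421312000 = (ds.map LevD.m).prod := by decide +kernel
  rw [e]
  exact h

end Cfsg.Agent.Lib.PermComp.OutP.Co2o
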